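import Mathlib

/-!
Three scalings of an additive subgroup of a field of characteristic two forming a non-distributive triple.
-/

set_option autoImplicit false
set_option linter.unusedSectionVars false
set_option linter.style.haveILetI false

namespace Cfsg.Lib.Suz.Binary

variable {F : Type*} [Field F] [Fintype F] [CharP F 2]

/-- A scalar with two avoiding properties. -/
theorem exists_good (S : Finset F) (h : 2 * (S.card * S.card) + 2 < Fintype.card F) :
    ∃ μ : F, μ ≠ 0 ∧ 1 + μ ≠ 0 ∧ (∀ x ∈ S, x ≠ 0 → μ * x ∉ S) ∧ ∀ x ∈ S, x ≠ 0 → (1 + μ) * x ∉ S := by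
  classical
  let B : Finset F := (S ×ˢ S).image fun p => p.2 / p.1
  have hB : B.card ≤ S.card * S.card := Finset.card_image_le.trans (le_of_eq (Finset.card_product _ _))
  let bad : Finset F := {0, 1} ∪ B ∪ B.image (fun x => 1 + x)
  have hbad : bad.card < (Finset.univ : Finset F).card := by
    rw [Finset.card_univ]
    have h1 := Finset.card_union_le ({0, 1} ∪ B) (B.image fun x => 1 + x)
    have h2 := Finset.card_union_le ({0, 1} : Finset F) B
    have h3 : ({0, 1} : Finset F).card ≤ 2 := Finset.card_le_two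
    have h4 : (B.image fun x => 1 + x).card ≤ B.card := Finset.card_image_le
    show (({0, 1} : Finset F) ∪ B ∪ B.image fun x => 1 + x).card < _
    omega
  obtain ⟨μ, -, hμ⟩ := Finset.exists_mem_notMem_of_card_lt_card hbad
  simp only [bad, Finset.mem_union, Finset.mem_insert, Finset.mem_singleton, Finset.mem_image, not_or] at hμ
  obtain ⟨⟨⟨h0, h1⟩, hB1⟩, hB2⟩ := hμ
  have hone : (1 : F) + μ ≠ 0 := fun e => h1 (by
    rw [add_comm, CharTwo.add_eq_zero] at e; exact e)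
  refine ⟨μ, h0, hone, fun x hx hx0 hx' => hB1 ?_, fun x hx hx0 hx' => hB2 ⟨1 + μ, ?_, ?_⟩⟩
  · exact Finset.mem_image.2 ⟨(x, μ * x), Finset.mem_product.2 ⟨hx, hx'⟩, mul_div_cancel_right₀ μ hx0⟩
  · exact Finset.mem_image.2 ⟨(x, (1 + μ) * x), Finset.mem_product.2 ⟨hx, hx'⟩, mul_div_cancel_right₀ _ hx0⟩
  · rw [← add_assoc, CharTwo.add_self_eq_zero, zero_add]

section Triple

variable [Algebra (ZMod 2) F]

theorem count_bound {n d : ℕ} (hd : 2 * d + 1 ≤ n) (hd1 : 1 ≤ d) :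
    2 * ((2 ^ d - 1) * (2 ^ d - 1)) + 2 < 2 ^ n := by
  have h1 : 2 ^ (2 * d + 1) ≤ 2 ^ n := Nat.pow_le_pow_right two_pos hd
  have h2 : 2 ≤ 2 ^ d := by
    calc 2 = 2 ^ 1 := rfl
      _ ≤ 2 ^ d := Nat.pow_le_pow_right two_pos hd1
  have h3 : 2 ^ (2 * d + 1) = 2 * (2 ^ d * 2 ^ d) := by rw [pow_succ, two_mul, pow_add]; ring
  obtain ⟨e, he⟩ : ∃ e, 2 ^ d = e + 1 := ⟨2 ^ d - 1, by omega⟩
  rw [h3, he] at h1
  rw [he, Nat.add_sub_cancel]
  nlinarith

/-- A small or co-small subspace gives a scalar separating it from two of its multiples. -/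
theorem good_of_submodule (S : Submodule (ZMod 2) F) {n d : ℕ} (hn : Fintype.card F = 2 ^ n)
    (hS : Module.finrank (ZMod 2) S = d) (hd : 2 * d + 1 ≤ n) (hd1 : 1 ≤ d) :
    ∃ μ : F, μ ≠ 0 ∧ 1 + μ ≠ 0 ∧ (∀ x ∈ S, μ * x ∈ S → x = 0) ∧ ∀ x ∈ S, (1 + μ) * x ∈ S → x = 0 := by
  classical
  have hc : ((Finset.univ.filter fun x : F => x ∈ S).erase 0).card = 2 ^ d - 1 := by
    rw [Finset.card_erase_of_mem (by simp), ← Fintype.card_subtype,
      Module.card_eq_pow_finrank (K := ZMod 2) (V := S), hS, ZMod.card]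
  obtain ⟨μ, h0, h1, h2, h3⟩ := exists_good ((Finset.univ.filter fun x : F => x ∈ S).erase 0) (by
    rw [hc, hn]; exact count_bound hd hd1)
  refine ⟨μ, h0, h1, fun x hx hx' => ?_, fun x hx hx' => ?_⟩
  · by_contra hx0
    exact h2 x (by simp [hx, hx0]) hx0 (by simp [hx', hx0, h0])
  · by_contra hx0
    exact h3 x (by simp [hx, hx0]) hx0 (by simp [hx', hx0, h1])

/-- The preimage under a scalar. -/
def scale (E : Submodule (ZMod 2) F) (c : F) : Submodule (ZMod 2) F := E.comap (LinearMap.mulLeft (ZMod 2) c)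

theorem mem_scale {E : Submodule (ZMod 2) F} {c z : F} : z ∈ scale E c ↔ c * z ∈ E := Iff.rfl

theorem finrank_scale (E : Submodule (ZMod 2) F) {c : F} (hc : c ≠ 0) :
    Module.finrank (ZMod 2) (scale E c) = Module.finrank (ZMod 2) E := by
  let e : F ≃ₗ[ZMod 2] F :=
    LinearEquiv.ofBijective (LinearMap.mulLeft (ZMod 2) c) (mulLeft_bijective₀ c hc)
  have h : scale E c = E.map (e.symm : F →ₗ[ZMod 2] F) := by
    rw [Submodule.map_equiv_eq_comap_symm]; rfl
  rw [h]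
  exact e.symm.finrank_map_eq E

/-- A scalar separating a co-small subspace from two of its multiples, on the annihilator side. -/
theorem exists_triple_large (E : Submodule (ZMod 2) F) {n d : ℕ} (hn : Module.finrank (ZMod 2) F = n)
    (hcard : Fintype.card F = 2 ^ n) (hd : Module.finrank (ZMod 2) E = d) (hdn : d < n) (hbig : n + 1 ≤ 2 * d) :
    ∃ c1 c2 c3 : F, c1 ≠ 0 ∧ c2 ≠ 0 ∧ c3 ≠ 0 ∧ ∃ a b : F, c1 * a ∈ E ∧ c2 * b ∈ E ∧ c3 * (a + b) ∈ E ∧
      ∀ d, c1 * d ∈ E → c2 * d ∈ E → c3 * (a - d) ∉ E := by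
  classical
  obtain ⟨f0, hf0⟩ : ∃ f : F →ₗ[ZMod 2] ZMod 2, f ≠ 0 := by
    obtain ⟨f, hf, -⟩ := Submodule.exists_le_ker_of_lt_top E (lt_top_iff_ne_top.2 fun h => by
      rw [h, finrank_top] at hd; omega)
    exact ⟨f, hf⟩
  let Φ : F →ₗ[ZMod 2] Module.Dual (ZMod 2) F := (LinearMap.mul (ZMod 2) F).compr₂ f0
  have hΦ : ∀ x y, Φ x y = f0 (x * y) := fun _ _ => rfl
  have hinj : Function.Injective Φ := by
    intro x y h
    by_contra hxy
    refine hf0 (LinearMap.ext fun z => ?_)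
    have := LinearMap.congr_fun h ((x - y)⁻¹ * z)
    rw [hΦ, hΦ, ← sub_eq_zero, ← map_sub, ← sub_mul, mul_inv_cancel_left₀ (sub_ne_zero.2 hxy)] at this
    simpa using this
  have hbij : Function.Bijective Φ :=
    ⟨hinj, (LinearMap.injective_iff_surjective_of_finrank_eq_finrank (Subspace.dual_finrank_eq).symm).1 hinj⟩
  let e := LinearEquiv.ofBijective Φ hbij
  let X : Submodule (ZMod 2) F := E.dualAnnihilator.map (e.symm : Module.Dual (ZMod 2) F →ₗ[ZMod 2] F)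
  have hX : ∀ x, x ∈ X ↔ ∀ z ∈ E, f0 (x * z) = 0 := fun x => by
    constructor
    · rintro ⟨g, hg, rfl⟩ z hz
      rw [← hΦ]
      show (e (e.symm g)) z = 0
      rw [e.apply_symm_apply]
      exact (Submodule.mem_dualAnnihilator g).1 hg z hz
    · intro h
      exact ⟨Φ x, (Submodule.mem_dualAnnihilator _).2 h, e.symm_apply_apply x⟩
  have hXd : Module.finrank (ZMod 2) X = n - d := by
    rw [show Module.finrank (ZMod 2) X = Module.finrank (ZMod 2) E.dualAnnihilator from e.symm.finrank_map_eq _]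
    have h := Subspace.finrank_add_finrank_dualAnnihilator_eq E
    rw [hn, hd] at h
    omega
  obtain ⟨μ, h0, h1, hX2, hX3⟩ := good_of_submodule X hcard hXd (by omega) (by omega)
  have hsup : ∀ c : F, c ≠ 0 → (∀ x ∈ X, c * x ∈ X → x = 0) → E ⊔ scale E c = ⊤ := by
    intro c hc hgood
    by_contra hne
    obtain ⟨g, hg, hle⟩ := Submodule.exists_le_ker_of_lt_top _ (lt_top_iff_ne_top.2 hne)
    obtain ⟨y, rfl⟩ := hbij.2 g
    have hy : y ∈ X := (hX y).2 fun z hz => by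
      have : z ∈ LinearMap.ker (Φ y) := hle (Submodule.mem_sup_left hz)
      exact (hΦ y z).symm.trans this
    have hy' : c⁻¹ * y ∈ X := (hX _).2 fun z hz => by
      have : c⁻¹ * z ∈ LinearMap.ker (Φ y) := hle (Submodule.mem_sup_right (mem_scale.2 (by
        rwa [mul_inv_cancel_left₀ hc])))
      rw [mul_assoc, mul_left_comm]
      exact (hΦ y _).symm.trans this
    have := hgood _ hy' (by rwa [mul_inv_cancel_left₀ hc])
    exact hg (by rw [(mul_eq_zero.1 this).resolve_left (inv_ne_zero hc), map_zero])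
  set A := scale E μ with hA
  set B := scale E (1 + μ) with hB
  have hEA := hsup μ h0 hX2
  have hEB := hsup (1 + μ) h1 hX3
  obtain ⟨x, hx, hx0⟩ : ∃ x ∈ X, x ≠ 0 := by
    refine X.ne_bot_iff.1 fun h => ?_
    rw [h, finrank_bot] at hXd; omega
  have hne : E ⊔ (A ⊓ B) ≠ ⊤ := fun h => by
    refine hinj.ne hx0 (LinearMap.ext fun z => ?_)
    have hle : E ⊔ (A ⊓ B) ≤ LinearMap.ker (Φ x) := by
      refine sup_le (fun z hz => (hX x).1 hx z hz) fun z hz => ?_
      show f0 (x * z) = 0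
      have ha := (hX x).1 hx _ (mem_scale.1 hz.1)
      have hb := (hX x).1 hx _ (mem_scale.1 hz.2)
      rw [add_mul, one_mul, mul_add, map_add, ha, add_zero] at hb
      exact hb
    rw [h] at hle
    rw [map_zero, LinearMap.zero_apply]
    exact hle (Submodule.mem_top (x := z))
  have e1 := Submodule.finrank_sup_add_finrank_inf_eq E A
  have e2 := Submodule.finrank_sup_add_finrank_inf_eq E B
  have e3 := Submodule.finrank_sup_add_finrank_inf_eq A B
  have e4 := Submodule.finrank_sup_add_finrank_inf_eq E (A ⊓ B)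
  have e5 := Submodule.finrank_sup_add_finrank_inf_eq E (A ⊔ B)
  have e6 := Submodule.finrank_sup_add_finrank_inf_eq (E ⊓ A) (E ⊓ B)
  rw [← inf_inf_distrib_left] at e6
  rw [hEA, finrank_top, hn, hd, finrank_scale E h0, hd] at e1
  rw [hEB, finrank_top, hn, hd, finrank_scale E h1, hd] at e2
  rw [finrank_scale E h0, finrank_scale E h1, hd] at e3
  rw [show E ⊔ (A ⊔ B) = ⊤ by rw [← sup_assoc, hEA, top_sup_eq], finrank_top, hn, hd] at e5
  have e7 := Submodule.finrank_lt hne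
  rw [hn] at e7
  rw [hd] at e4
  have hlt : Module.finrank (ZMod 2) ↥((E ⊓ A) ⊔ (E ⊓ B)) < Module.finrank (ZMod 2) ↥(E ⊓ (A ⊔ B)) := by omega
  have hle : (E ⊓ A) ⊔ (E ⊓ B) ≤ E ⊓ (A ⊔ B) :=
    sup_le (le_inf inf_le_left (inf_le_right.trans le_sup_left))
      (le_inf inf_le_left (inf_le_right.trans le_sup_right))
  obtain ⟨c, hc, hc'⟩ := SetLike.exists_of_lt (lt_of_le_of_ne hle fun h => by
    rw [h] at hlt; exact lt_irrefl _ hlt)
  obtain ⟨a, ha, b, hb, rfl⟩ := Submodule.mem_sup.1 hc.2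
  refine ⟨μ, 1 + μ, 1, h0, h1, one_ne_zero, a, b, ha, hb, by rw [one_mul]; exact hc.1,
    fun z hz1 hz2 hz3 => hc' (Submodule.mem_sup.2 ⟨a - z, ⟨by rwa [one_mul] at hz3, A.sub_mem ha hz1⟩,
      b + z, ⟨?_, B.add_mem hb hz2⟩, by abel⟩)⟩
  rw [one_mul] at hz3
  have := E.sub_mem hc.1 hz3
  rwa [show a + b - (a - z) = b + z by abel] at this

end Triple

/-- Three scalings of a proper nontrivial additive subgroup without the distributive law. -/
theorem exists_triple {m : ℕ} (hF : Fintype.card F = 2 ^ (2 * m + 1)) (E : AddSubgroup F) (hne : E ≠ ⊥)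
    (htop : E ≠ ⊤) :
    ∃ c1 c2 c3 : F, c1 ≠ 0 ∧ c2 ≠ 0 ∧ c3 ≠ 0 ∧ ∃ a b : F, c1 * a ∈ E ∧ c2 * b ∈ E ∧ c3 * (a + b) ∈ E ∧
      ∀ d, c1 * d ∈ E → c2 * d ∈ E → c3 * (a - d) ∉ E := by
  classical
  letI := ZMod.algebra F 2
  obtain ⟨E', hE'⟩ : ∃ E' : Submodule (ZMod 2) F, ∀ x, x ∈ E' ↔ x ∈ E :=
    ⟨AddSubgroup.toZModSubmodule 2 E, fun _ => Iff.rfl⟩
  have hn : Module.finrank (ZMod 2) F = 2 * m + 1 := by
    have := Module.card_eq_pow_finrank (K := ZMod 2) (V := F)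
    rw [ZMod.card, hF] at this
    exact (Nat.pow_right_injective le_rfl this).symm
  obtain ⟨d, hd⟩ : ∃ d, Module.finrank (ZMod 2) E' = d := ⟨_, rfl⟩
  have hd1 : 1 ≤ d := by
    rw [← hd, Nat.one_le_iff_ne_zero, ne_eq, Submodule.finrank_eq_zero, ← ne_eq, Submodule.ne_bot_iff]
    obtain ⟨⟨x, hx⟩, hx0⟩ := (AddSubgroup.ne_bot_iff_exists_ne_zero).1 hne
    exact ⟨x, (hE' x).2 hx, fun h => hx0 (Subtype.ext h)⟩
  have hdn : d < 2 * m + 1 := by
    rw [← hd, ← hn]
    refine Submodule.finrank_lt fun h => htop ((AddSubgroup.eq_top_iff' E).2 fun x => (hE' x).1 (h ▸ Submodule.mem_top))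
  rcases Nat.lt_or_ge (2 * d) (2 * m + 1 + 1) with hsmall | hbig
  · obtain ⟨μ, h0, h1, h2, h3⟩ := good_of_submodule E' hF hd (by omega) hd1
    obtain ⟨w, hw, hw0⟩ : ∃ w ∈ E', w ≠ 0 := by
      refine E'.ne_bot_iff.1 fun h => ?_
      rw [h, finrank_bot] at hd; omega
    refine ⟨1, μ⁻¹, (1 + μ)⁻¹, one_ne_zero, inv_ne_zero h0, inv_ne_zero h1, w, μ * w, ?_, ?_, ?_, fun z hz1 hz2 hz3 => ?_⟩
    · rw [one_mul]; exact (hE' w).1 hw
    · rw [inv_mul_cancel_left₀ h0]; exact (hE' w).1 hw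
    · rw [show w + μ * w = (1 + μ) * w by ring, inv_mul_cancel_left₀ h1]; exact (hE' w).1 hw
    · rw [one_mul] at hz1
      have hz : μ⁻¹ * z = 0 := h2 _ ((hE' _).2 hz2) (by rw [mul_inv_cancel_left₀ h0]; exact (hE' z).2 hz1)
      rw [(mul_eq_zero.1 hz).resolve_left (inv_ne_zero h0), sub_zero] at hz3
      have := h3 _ ((hE' _).2 hz3) (by rw [mul_inv_cancel_left₀ h1]; exact hw)
      exact hw0 ((mul_eq_zero.1 this).resolve_left (inv_ne_zero h1))
  · obtain ⟨c1, c2, c3, u1, u2, u3, a, b, ha, hb, hab, hno⟩ := exists_triple_large E' hn hF hd hdn hbig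
    exact ⟨c1, c2, c3, u1, u2, u3, a, b, (hE' _).1 ha, (hE' _).1 hb, (hE' _).1 hab,
      fun z h1 h2 h3 => hno z ((hE' _).2 h1) ((hE' _).2 h2) ((hE' _).2 h3)⟩

end Cfsg.Lib.Suz.Binary
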