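import Cfsg.Agent.Suz.Binary.Cases
import Cfsg.Agent.Suz.Sub.Count
import Cfsg.Agent.Suz.PrincipalSeries
import Mathlib

/-!
The subgroups of a Suzuki group giving binary actions on cosets.
-/

set_option autoImplicit false
set_option linter.unusedSectionVars false
set_option linter.style.haveILetI false

namespace Cfsg.Lib.Suz.Binary

open Cfsg.Lib.Suz Cfsg.Lib.Suz.Sub Cfsg.Lib.Suz.Solub

variable {F : Type*} [Field F] [Fintype F] {m : ℕ} (Q : Par F m)

local notation "SS" => Cfsg.Sz F m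
local notation "inf∞" => Cfsg.suzukiPointInfinity F

include Q

theorem stab_semi {x : SS} (hx : x.1 • inf∞ = inf∞) (hU : x ∉ uSub Q) : Semi Q x := by
  by_contra hs
  have hx1 : x ≠ 1 := fun e => hU (e ▸ one_mem _)
  obtain ⟨p, -, -, hu, c, hc, hcp⟩ := fix_unique Q hx1 hs
  rw [← hu _ (inf_mem m) hx] at hcp
  have hn : c ∈ Subgroup.normalizer (uSub Q : Set SS) := by rw [normalizer_uSub Q]; exact hcp
  exact hU ((Subgroup.mem_normalizer_iff.1 hn x).2 hc)

theorem borel {H : Subgroup SS} (hne : H ≠ ⊥) (hfix : ∀ x ∈ H, x.1 • inf∞ = inf∞) (hz : H ≠ zSub Q) :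
    ¬ Bin H := by
  classical
  have : Fact (Nat.Prime 2) := ⟨Nat.prime_two⟩
  by_cases hU : H ≤ uSub Q
  · by_cases h4 : ∃ x ∈ H, orderOf x = 4
    · obtain ⟨x, hx, hx4⟩ := h4
      exact four_unip Q hU hx hx4
    · push Not at h4
      refine sub_center Q (fun x hx => ?_) hne hz
      rcases eq_or_ne x 1 with rfl | hx1
      · exact one_mem _
      have hs : ¬ Semi Q x := fun hs => hs 1 (by simpa using hU hx)
      rcases orderOf_two_or_four Q hx1 hs with h | h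
      · obtain ⟨b, -, e⟩ := inv_at_inf Q h (hfix x hx)
        exact ⟨b, e⟩
      · exact absurd h (h4 x hx)
  obtain ⟨h, hh, hhU⟩ := SetLike.not_le_iff_exists.1 hU
  have hs := stab_semi Q (hfix h hh) hhU
  by_cases hP : ∀ x ∈ H, x ∈ uSub Q → x = 1
  · refine odd_cyclic Q hs hne fun x hx => mem_tor.2 ?_
    obtain ⟨π, hπU, hπ⟩ := exists_proj Q
    let x' : MulAction.stabilizer SS (pI m : Cfsg.suzukiOvoid F m) := ⟨x, (mem_stab_pI Q).2 (hfix x hx)⟩
    let h' : MulAction.stabilizer SS (pI m : Cfsg.suzukiOvoid F m) := ⟨h, (mem_stab_pI Q).2 (hfix h hh)⟩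
    have hzH : x * h * x⁻¹ * h⁻¹ ∈ H := mul_mem (mul_mem (mul_mem hx hh) (inv_mem hx)) (inv_mem hh)
    have hπ1 : π (x' * h' * x'⁻¹ * h'⁻¹) = 1 := by
      rw [map_mul, map_mul, map_mul, map_inv, map_inv, mul_right_comm (π x') (π h'), mul_inv_cancel, one_mul,
        mul_inv_cancel]
    obtain ⟨a, b, l, e⟩ := exists_uh Q (hfix _ hzH)
    have hl : π (x' * h' * x'⁻¹ * h'⁻¹) = l := by
      rw [show x' * h' * x'⁻¹ * h'⁻¹ = (⟨uu Q a b, uSub_le Q (uu_mem Q a b)⟩ : MulAction.stabilizer SS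
        (pI m : Cfsg.suzukiOvoid F m)) * ⟨hI Q l, hI_stab Q l⟩ from Subtype.ext e, map_mul,
        hπU _ (uu_mem Q a b), hπ, one_mul]
    rw [hπ1] at hl
    subst hl
    have hz1 := hP _ hzH (by
      rw [e, show hI Q 1 = 1 from map_one (hHom Q), mul_one]
      exact uu_mem Q a b)
    exact mul_inv_eq_iff_eq_mul.1 (mul_inv_eq_one.1 hz1)
  push Not at hP
  obtain ⟨x, hx, hxU, hx1⟩ := hP
  obtain ⟨b, hb0, hb⟩ : ∃ b, b ≠ 0 ∧ uu Q 0 b ∈ H := by
    obtain ⟨a, b, rfl⟩ := exists_uu Q hxU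
    rcases eq_or_ne a 0 with rfl | ha
    · exact ⟨b, fun e => hx1 (by rw [e, uu_zero]), hx⟩
    · exact ⟨_, pow_ne_zero (2 ^ (m + 1) + 1) ha, uu_sq Q a b ▸ pow_mem hx 2⟩
  obtain ⟨c, k, hk, e⟩ : ∃ c k, k ≠ 1 ∧ c * h * c⁻¹ = hI Q k := by
    rcases semi_cases Q hs with h' | h'
    · exact h'
    · exact absurd (hfix h hh) (h' _ (inf_mem m))
  have hww := wS_mul_self Q
  have hwi : (wS Q)⁻¹ = wS Q := inv_eq_of_mul_eq_one_right hww
  have hwk : ∀ l : Fˣ, wS Q * hI Q l * wS Q = hI Q l⁻¹ := fun l => by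
    have h1 : hI Q l * wS Q * hI Q l = wS Q := Subtype.ext (hwh Q l)
    rw [show hI Q l⁻¹ = (hI Q l)⁻¹ from map_inv (hHom Q) l]
    refine eq_inv_of_mul_eq_one_right ?_
    rw [← mul_assoc, ← mul_assoc, h1, hww]
  obtain ⟨c, k, hk, e, hc⟩ : ∃ c k, k ≠ 1 ∧ c * h * c⁻¹ = hI Q k ∧ c.1 • inf∞ = inf∞ := by
    have hf : Cfsg.Lib.Suz.H m k • c.1 • inf∞ = c.1 • inf∞ := by
      rw [show Cfsg.Lib.Suz.H m k = c.1 * h.1 * c.1⁻¹ from (congrArg Subtype.val e).symm, mul_smul, mul_smul, inv_smul_smul,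
        hfix h hh]
    rcases fixed_point_hI Q hk (smul_ovoid Q c.2 (inf_mem m)) hf with h' | h'
    · exact ⟨c, k, hk, e, h'⟩
    · refine ⟨wS Q * c, k⁻¹, inv_ne_one.2 hk, ?_, ?_⟩
      · rw [← hwk, ← e, mul_inv_rev, hwi]; group
      · rw [Subgroup.coe_mul, mul_smul, h']
        exact W_zero m
  rw [bin_conj c rfl]
  have hfix' : ∀ y ∈ H.map (MulAut.conj c).toMonoidHom, y.1 • inf∞ = inf∞ := by
    rintro _ ⟨y, hy, rfl⟩
    show (c.1 * y.1 * c.1⁻¹) • inf∞ = inf∞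
    have hci : c.1⁻¹ • inf∞ = inf∞ := by rw [inv_smul_eq_iff, hc]
    rw [mul_smul, mul_smul, hci, hfix y hy, hc]
  have hkM : hI Q k ∈ H.map (MulAut.conj c).toMonoidHom := e ▸ ⟨h, hh, rfl⟩
  obtain ⟨a', b', l', ec⟩ := exists_uh Q hc
  refine torus_frob Q (g := wS Q) (l := k) (b := (l' : F) ^ (2 ^ (m + 1) + 1) * b) (fun d hd hd' => ?_) hk hkM ?_
    (mul_ne_zero (pow_ne_zero _ l'.ne_zero) hb0) ?_
  · have h1 := hfix' d hd
    have h2 := hfix' _ hd'
    rw [Subgroup.coe_mul, Subgroup.coe_mul, Subgroup.coe_inv, mul_smul, mul_smul, inv_smul_eq_iff] at h2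
    obtain ⟨l, hl⟩ := stab_pair Q d.2 h1 (by rw [← W_inf m]; exact h2)
    exact ⟨l, Subtype.ext hl⟩
  · rw [hwi, hwk, show hI Q k⁻¹ = (hI Q k)⁻¹ from map_inv (hHom Q) k]
    exact inv_mem hkM
  · refine ⟨uu Q 0 b, hb, ?_⟩
    show c * uu Q 0 b * c⁻¹ = _
    rw [ec]
    exact uh_conj Q a' b' l' b

theorem torus_normal {H : Subgroup SS} {u : SS} (hu : Semi Q u) (hle : H ≤ nor u) (hne : H ≠ ⊥) :
    ¬ Bin H ∨ ∃ p ∈ Cfsg.suzukiOvoid F m, ∀ x ∈ H, x.1 • p = p := by
  classical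
  by_cases hsemi : ∃ r ∈ H, r ≠ 1 ∧ Semi Q r
  · left
    obtain ⟨r, hr, hr1, hrs⟩ := hsemi
    by_cases hall : H ≤ tor u
    · exact odd_cyclic Q hu hne hall
    by_cases h4 : ∃ t ∈ H, orderOf t = 4
    · obtain ⟨t, ht, ht4⟩ := h4
      exact four_frob Q hu hle ht ht4 hr hr1 hrs
    push Not at h4
    obtain ⟨s, hs, hst⟩ := SetLike.not_le_iff_exists.1 hall
    refine dihedral Q hu hle hs ?_ h4
    have hs1 : s ≠ 1 := fun e => hst (e ▸ one_mem _)
    have hns : ¬ Semi Q s := fun h => hst (semi_mem Q hu h (hle hs))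
    rcases orderOf_two_or_four Q hs1 hns with h | h
    · exact h
    · exact absurd h (h4 s hs)
  · push Not at hsemi
    right
    obtain ⟨⟨x, hx⟩, hx'⟩ := Subgroup.ne_bot_iff_exists_ne_one.1 hne
    have hx1 : x ≠ 1 := fun e => hx' (Subtype.ext e)
    obtain ⟨p, hp, hfp, hup, -⟩ := fix_unique Q hx1 (hsemi x hx hx1)
    refine ⟨p, hp, fun y hy => commute_fix Q hp hfp hup ?_⟩
    have hm := comm_mem Q hu (hle hx) (hle hy)
    have hH : x * y * x⁻¹ * y⁻¹ ∈ H := mul_mem (mul_mem (mul_mem hx hy) (inv_mem hx)) (inv_mem hy)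
    have h1 : x * y * x⁻¹ * y⁻¹ = 1 := by
      by_contra h
      exact hsemi _ hH h ((semi_spec Q hu).2.2 _ hm h).1
    exact mul_inv_eq_iff_eq_mul.1 (mul_inv_eq_one.1 h1)

/-- A proper subfield subgroup. -/
theorem subfield {K : Type*} [Field K] [Fintype K] {k : ℕ} (R : Par K k) (hdiv : 2 * k + 1 ∣ 2 * m + 1)
    (ι : K →+* F) (hne : (emb Q R hdiv ι).range ≠ ⊤) : ¬ Bin (emb Q R hdiv ι).range := by
  classical
  obtain ⟨U, hU⟩ : ∃ U : Subgroup Fˣ, U = (Units.map ι.toMonoidHom).range := ⟨_, rfl⟩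
  obtain ⟨κ, hκ⟩ : ∃ κ : Fˣ, κ ∉ U := by
    by_contra hall
    push Not at hall
    refine hne (Subgroup.eq_top_of_card_eq _ ?_)
    have hs : Function.Surjective ι := fun x => by
      rcases eq_or_ne x 0 with rfl | hx
      · exact ⟨0, map_zero ι⟩
      · obtain ⟨t, ht⟩ := hU ▸ hall (Units.mk0 x hx)
        exact ⟨t, congrArg Units.val ht⟩
    have hc : 2 ^ (2 * k + 1) = 2 ^ (2 * m + 1) := by
      rw [← R.hF, ← Q.hF]; exact Fintype.card_congr (Equiv.ofBijective ι ⟨ι.injective, hs⟩)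
    rw [Nat.card_congr (MonoidHom.ofInjective (emb_injective Q R hdiv ι)).symm.toEquiv, card_Sz R, card_Sz Q, hc]
  have hpow : ∀ f : Fˣ →* Fˣ, Function.Injective f → (∀ x ∈ U, f x ∈ U) → f κ ∉ U := by
    intro f hf hfU hκ'
    obtain ⟨⟨y, hy⟩, e⟩ := (Finite.injective_iff_surjective (f := fun z : U => (⟨f z.1, hfU z.1 z.2⟩ : U))).1
      (fun a b e => Subtype.ext (hf (congrArg Subtype.val e))) ⟨f κ, hκ'⟩
    exact hκ (hf (congrArg Subtype.val e) ▸ hy)
  have hnp : ∀ n : ℕ, Function.Injective (fun x : Fˣ => x ^ n) → κ ^ n ∉ U := fun n hn =>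
    hpow (powMonoidHom n) hn fun x hx => pow_mem hx n
  have hsq : Function.Injective fun x : Fˣ => x ^ (2 * hh m) := fun x y h => by
    have h' := congrArg Units.val h
    simp only [Units.val_pow_eq_pow_val] at h'
    rw [show 2 * hh m = 2 ^ (m + 1) by rw [hh, pow_succ]; ring] at h'
    have h0 : ((x : F) + y) ^ (2 ^ (m + 1)) = 0 := by rw [add_pow_s Q, h', add_self Q]
    exact Units.ext ((eq_neg_of_add_eq_zero_left (pow_eq_zero_iff (pow_ne_zero _ two_ne_zero) |>.1 h0)).trans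
      (neg_eq Q _))
  have hs1 : Function.Injective fun x : Fˣ => x ^ (2 * hh m + 1) := fun x y h => by
    have h' := congrArg Units.val h
    simp only [Units.val_pow_eq_pow_val] at h'
    have h2 : ((x * y⁻¹ : Fˣ) : F) ^ (2 ^ (m + 1) + 1) = 1 := by
      rw [show 2 ^ (m + 1) + 1 = 2 * hh m + 1 by rw [hh, pow_succ]; ring, Units.val_mul, mul_pow,
        Units.val_inv_eq_inv_val, inv_pow, h', mul_inv_cancel₀ (pow_ne_zero _ y.ne_zero)]
    exact mul_inv_eq_one.1 (units_s1 Q h2)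
  have hs2 : Function.Injective fun x : Fˣ => x ^ (2 * hh m + 2) := fun x y h => by
    refine corner_injective Q (Units.ext ?_)
    have h' := congrArg Units.val h
    simp only [Units.val_pow_eq_pow_val] at h' ⊢
    rw [show 2 * hh m + 2 = (hh m + 1) * 2 by ring, pow_mul, pow_mul] at h'
    have h0 : ((x : F) ^ (hh m + 1) + (y : F) ^ (hh m + 1)) ^ 2 = 0 := by rw [add_sq' Q, h', add_self Q]
    exact (eq_neg_of_add_eq_zero_left (pow_eq_zero_iff two_ne_zero |>.1 h0)).trans (neg_eq Q _)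
  -- the diagonal entries
  obtain ⟨e, he⟩ : ∃ e : Fin 4 → Fˣ, e = ![κ ^ (hh m + 1), κ ^ hh m, (κ ^ hh m)⁻¹, (κ ^ (hh m + 1))⁻¹] := ⟨_, rfl⟩
  have hlt : ∀ i j : Fin 4, i < j → e i * (e j)⁻¹ ∉ U := by
    intro i j hij
    fin_cases i <;> fin_cases j <;> first | exact absurd hij (by decide) | skip
    all_goals subst he
    all_goals simp only [Matrix.cons_val_zero, Matrix.cons_val_one, Matrix.cons_val, inv_inv, Fin.mk_one,
      Fin.zero_eta, Fin.reduceFinMk]
    · rw [pow_succ, mul_comm (κ ^ hh m), mul_inv_cancel_right]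
      exact hκ
    · rw [← pow_add, show hh m + 1 + hh m = 2 * hh m + 1 by ring]
      exact hnp _ hs1
    · rw [← pow_add, show hh m + 1 + (hh m + 1) = 2 * hh m + 2 by ring]
      exact hnp _ hs2
    · rw [← pow_add, show hh m + hh m = 2 * hh m by ring]
      exact hnp _ hsq
    · rw [← pow_add, show hh m + (hh m + 1) = 2 * hh m + 1 by ring]
      exact hnp _ hs1
    · rw [pow_succ, inv_mul_cancel_left]
      exact hκ
  have hoff : ∀ i j : Fin 4, i ≠ j → e i * (e j)⁻¹ ∉ U := by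
    intro i j hij h
    rcases lt_or_gt_of_ne hij with h' | h'
    · exact hlt i j h' h
    · refine hlt j i h' ?_
      have := inv_mem h
      rwa [mul_inv_rev, inv_inv] at this
  have hdiag : (hI Q κ).1.1 = Matrix.diagonal fun i => ((e i : Fˣ) : F) := by
    subst he
    show Matrix.diagonal _ = Matrix.diagonal _
    congr 1
    funext i
    fin_cases i <;> rfl
  have htor : ∀ t : Kˣ, hI Q (Units.map ι.toMonoidHom t) ∈ (emb Q R hdiv ι).range := fun t =>
    ⟨hI R t, Subtype.ext (map_H Q R hdiv ι t)⟩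
  obtain ⟨t, ht⟩ : ∃ t : Kˣ, t ≠ 1 := by
    have h8 := (num_facts R).1
    have : Nontrivial Kˣ := Finite.one_lt_card_iff_nontrivial.1 (by
      rw [Nat.card_units, Nat.card_eq_fintype_card, R.hF]; omega)
    exact exists_ne 1
  refine torus_frob Q (g := hI Q κ) (l := Units.map ι.toMonoidHom t) (b := 1) (fun d hd hd' => ?_) ?_ (htor t) ?_
    one_ne_zero ⟨uu R 0 1, Subtype.ext ((map_T Q R hdiv ι 0 1).trans (by rw [map_zero, map_one]; rfl))⟩
  · obtain ⟨g0, hg0⟩ := hd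
    obtain ⟨g1, hg1⟩ := hd'
    have hent : ∀ i j, i ≠ j → d.1.1 i j = 0 := by
      intro i j hij
      by_contra h0
      have e1 : d.1.1 i j = ι (g0.1.1 i j) := by rw [← hg0]; rfl
      have e2 : d.1.1 i j * ((e j : Fˣ) : F) = ((e i : Fˣ) : F) * ι (g1.1.1 i j) := by
        have hm : (hI Q κ).1.1 * (emb Q R hdiv ι g1).1.1 = d.1.1 * (hI Q κ).1.1 := by
          have : hI Q κ * emb Q R hdiv ι g1 = d * hI Q κ := by rw [hg1]; group
          exact congrArg (fun z : SS => (z.1.1 : Matrix (Fin 4) (Fin 4) F)) this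
        rw [hdiag] at hm
        have h := congrFun (congrFun hm i) j
        rw [Matrix.diagonal_mul, Matrix.mul_diagonal] at h
        exact h.symm
      have ha : g0.1.1 i j ≠ 0 := fun h => h0 (by rw [e1, h, map_zero])
      have hb : g1.1.1 i j ≠ 0 := fun h => h0 (by
        rw [h, map_zero, mul_zero] at e2
        exact (mul_eq_zero.1 e2).resolve_right (Units.ne_zero _))
      refine hoff i j hij (hU ▸ ⟨Units.mk0 _ ha * (Units.mk0 _ hb)⁻¹, Units.ext ?_⟩)
      show ι (((Units.mk0 _ ha * (Units.mk0 _ hb)⁻¹ : Kˣ)) : K) = ((e i * (e j)⁻¹ : Fˣ) : F)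
      rw [Units.val_mul, Units.val_mul, Units.val_inv_eq_inv_val, Units.val_inv_eq_inv_val, Units.val_mk0,
        Units.val_mk0, map_mul, map_inv₀, ← e1, ← div_eq_mul_inv, ← div_eq_mul_inv,
        div_eq_div_iff ((map_ne_zero ι).2 hb) (Units.ne_zero _), e2]
    have h1 : d.1 • inf∞ = inf∞ := smul_inf_of (d.1.1 0 0) (by
      funext i
      fin_cases i <;>
        simp [Matrix.mulVec, dotProduct, Fin.sum_univ_four, hent 1 0 (by decide), hent 2 0 (by decide),
          hent 3 0 (by decide)])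
    have h2 : d.1 • pt m (0 : F) 0 = pt m 0 0 := smul_mk_eq _ _ _ (d.1.1 3 3) (by
      funext i
      fin_cases i <;>
        simp [Matrix.mulVec, dotProduct, Fin.sum_univ_four, vec, fn, hent 0 3 (by decide), hent 1 3 (by decide),
          hent 2 3 (by decide)])
    obtain ⟨l, hl⟩ := stab_pair Q d.2 h1 h2
    exact ⟨l, Subtype.ext hl⟩
  · exact fun h => ht (Units.map_injective (f := ι.toMonoidHom) ι.injective (h.trans (map_one _).symm))
  · rw [show (hI Q κ)⁻¹ * hI Q (Units.map ι.toMonoidHom t) * hI Q κ = hI Q (Units.map ι.toMonoidHom t) by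
      show (hHom Q κ)⁻¹ * hHom Q _ * hHom Q κ = hHom Q _
      rw [mul_assoc, ← map_mul, mul_comm _ κ, map_mul, inv_mul_cancel_left]]
    exact htor t

/-- The binary coset actions. -/
theorem main {H : Subgroup SS} (hH : H ≠ ⊤) :
    Bin H ↔ H = ⊥ ∨ ∃ P : Sylow 2 SS, H = (Subgroup.center (P : Subgroup SS)).map (P : Subgroup SS).subtype := by
  classical
  have : Fact (Nat.Prime 2) := ⟨Nat.prime_two⟩
  have hcenter : ∀ (c : SS) (P : Sylow 2 SS), (∀ g, g ∈ (P : Subgroup SS) ↔ c * g * c⁻¹ ∈ uSub Q) →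
      ((Subgroup.center (P : Subgroup SS)).map (P : Subgroup SS).subtype).map (MulAut.conj c).toMonoidHom =
        zSub Q := by
    intro c P hP
    rw [← center_map Q]
    ext z
    rw [mem_map_conj]
    constructor
    · rintro ⟨y, hy, e⟩
      have e' : y.1 = c⁻¹ * z * c := e
      have hz : z ∈ uSub Q := by
        have := (hP y.1).1 y.2
        rwa [e', show c * (c⁻¹ * z * c) * c⁻¹ = z by group] at this
      refine ⟨⟨z, hz⟩, Subgroup.mem_center_iff.2 fun w => Subtype.ext ?_, rfl⟩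
      have h1 : c⁻¹ * w.1 * c ∈ (P : Subgroup SS) := (hP _).2 (by simp [mul_assoc, w.2])
      have h2 := congrArg Subtype.val (Subgroup.mem_center_iff.1 hy ⟨_, h1⟩)
      simp only [Subgroup.coe_mul, e'] at h2 ⊢
      calc w.1 * z = c * (c⁻¹ * w.1 * c * (c⁻¹ * z * c)) * c⁻¹ := by group
        _ = z * w.1 := by rw [h2]; group
    · rintro ⟨y, hy, rfl⟩
      refine ⟨⟨c⁻¹ * y.1 * c, (hP _).2 (by simp [mul_assoc, y.2])⟩,
        Subgroup.mem_center_iff.2 fun w => Subtype.ext ?_, rfl⟩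
      have h2 := congrArg Subtype.val (Subgroup.mem_center_iff.1 hy ⟨_, (hP w.1).1 w.2⟩)
      simp only [Subgroup.coe_mul] at h2 ⊢
      calc w.1 * (c⁻¹ * y.1 * c) = c⁻¹ * (c * w.1 * c⁻¹ * y.1) * c := by group
        _ = _ := by rw [h2]; group
  constructor
  swap
  · rintro (rfl | ⟨P, rfl⟩)
    · exact bin_bot
    · obtain ⟨c, hc⟩ := exists_conj Q P
      exact (bin_conj c (hcenter c P hc)).2 (bin_zSub Q)
  intro hbin
  by_contra hno
  push Not at hno
  obtain ⟨hne, hZ⟩ := hno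
  have hpoint : ∀ p ∈ Cfsg.suzukiOvoid F m, (∀ x ∈ H, x.1 • p = p) → False := by
    intro p hp hfix
    obtain ⟨c0, hc0, hcp⟩ := transitive Q hp (inf_mem m)
    obtain ⟨c, rfl⟩ : ∃ c : SS, c.1 = c0 := ⟨⟨c0, hc0⟩, rfl⟩
    refine borel Q ?_ ?_ ?_ ((bin_conj c rfl).1 hbin)
    · rwa [ne_eq, Subgroup.map_eq_bot_iff_of_injective _ (MulAut.conj c).injective]
    · rintro _ ⟨x, hx, rfl⟩
      show (c.1 * x.1 * c.1⁻¹) • inf∞ = inf∞
      rw [← hcp, mul_smul, mul_smul, inv_smul_smul, hfix x hx]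
    · intro e
      refine hZ (c⁻¹ • syl Q) ?_
      have hP : ∀ g, g ∈ ((c⁻¹ • syl Q : Sylow 2 SS) : Subgroup SS) ↔ c * g * c⁻¹ ∈ uSub Q := fun g => by
        rw [Sylow.coe_subgroup_smul, Subgroup.mem_pointwise_smul_iff_inv_smul_mem, syl_coe]
        show (MulAut.conj c⁻¹)⁻¹ g ∈ uSub Q ↔ _
        rw [← map_inv, MulAut.conj_apply]
        simp
      refine Subgroup.map_injective (f := (MulAut.conj c).toMonoidHom) (MulAut.conj c).injective ?_
      rw [hcenter c _ hP, e]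
  rcases reduce Q H with ⟨P, hP⟩ | ⟨U, hU, hUc, hle⟩ | ⟨k, K, _, _, R, ι, c, hdiv, hN⟩
  · obtain ⟨c, hc⟩ := exists_conj Q P
    refine hpoint (c.1⁻¹ • inf∞) (smul_ovoid Q (inv_mem c.2) (inf_mem m)) fun z hz => ?_
    have h : c * z * c⁻¹ ∈ Subgroup.normalizer (uSub Q : Set SS) := by
      have hz' := hP hz
      rw [Subgroup.mem_normalizer_iff] at hz' ⊢
      intro u
      have := hz' (c⁻¹ * u * c)
      rw [hc, hc] at this
      simpa [mul_assoc] using this
    rw [normalizer_uSub Q] at h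
    have h' : (c.1 * z.1 * c.1⁻¹) • inf∞ = inf∞ := h
    rw [mul_smul, mul_smul, ← eq_inv_smul_iff] at h'
    exact h'
  · obtain ⟨h8, h4, h2, hq, hr⟩ := num_facts Q
    have hodd : Odd (Nat.card U) := by
      rw [Nat.odd_iff]
      rcases hUc with h | h | h <;> rw [h] <;> omega
    have : Nontrivial U := Finite.one_lt_card_iff_nontrivial.1 (by
      rcases hUc with h | h | h <;> rw [h] <;> omega)
    obtain ⟨u, hu⟩ := exists_ne (1 : U)
    have hu1 : (u : SS) ≠ 1 := fun h => hu (Subtype.ext h)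
    have hus : Semi Q (u : SS) := semi_of_odd Q hu1 (hodd.of_dvd_nat (Subgroup.orderOf_dvd_natCard _ u.2))
    have key : H ≤ nor (u : SS) := fun z hz => (fam0 Q).normalizer_iff hus (mem_tor.2 (by
      let := hU.commGroup
      exact congrArg Subtype.val (mul_comm
        (⟨_, (Subgroup.mem_normalizer_iff.1 (hle hz) (u : SS)).1 u.2⟩ : U) u)))
    rcases torus_normal Q hus key hne with h | ⟨p, hp, hfix⟩
    · exact h hbin
    · exact hpoint p hp hfix
  · have he := eq_emb Q R hdiv hN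
    refine subfield Q R hdiv ι (fun htop => hH ?_) ((bin_conj c he).1 hbin)
    refine Subgroup.map_injective (f := (MulAut.conj c).toMonoidHom) (MulAut.conj c).injective ?_
    rw [he, htop, Subgroup.map_top_of_surjective _ (MulAut.conj c).surjective]

end Cfsg.Lib.Suz.Binary
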