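import Cfsg.Agent.Suz.SolubCount
import Mathlib

/-!
Three involutions of a Suzuki group with all pairwise products conjugate to a given semisimple element.
-/

set_option autoImplicit false
set_option linter.unusedSectionVars false
set_option linter.style.haveILetI false

namespace Cfsg.Lib.Suz.Binary

open Cfsg.Lib.Suz Cfsg.Lib.Suz.Sub Cfsg.Lib.Suz.Solub

variable {F : Type*} [Field F] [Fintype F] {m : ℕ} (Q : Par F m)

local notation "SS" => Cfsg.Sz F m
local notation "inf∞" => Cfsg.suzukiPointInfinity F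
local notation "qq" => (2 ^ (2 * m + 1) : ℕ)

include Q

theorem wS_mul_self : wS Q * wS Q = 1 := Subtype.ext (W_sq Q)

theorem hI_inj {k l : Fˣ} (h : hI Q k = hI Q l) : k = l := hHom_injective Q h

/-- The corner exponent is injective. -/
theorem corner_injective : Function.Injective fun l : Fˣ => l ^ (hh m + 1) := by
  have key : ∀ d : Fˣ, d ^ (hh m + 1) = 1 → d = 1 := by
    intro d hd
    have e : (hh m + 1) * 2 = 2 ^ (m + 1) + 2 := by rw [hh, pow_succ]; ring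
    have h1 : (d : F) ^ (2 ^ (m + 1)) * (d : F) ^ 2 = 1 := by
      rw [← pow_add, ← e, pow_mul, ← Units.val_pow_eq_pow_val, hd, Units.val_one, one_pow]
    have h2 := congrArg (fun z : F => z ^ (2 ^ (m + 1))) h1
    simp only [mul_pow, one_pow, pow_ss Q] at h2
    rw [← pow_mul, mul_comm 2, pow_mul] at h2
    have ha : (d : F) ^ (2 ^ (m + 1)) = 1 := by
      linear_combination h2 - (d : F) ^ (2 ^ (m + 1)) * h1
    rw [ha, one_mul] at h1
    refine Units.ext ?_
    have h7 : ((d : F) + 1) ^ 2 = 0 := by rw [add_sq' Q, h1, one_pow, add_self Q]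
    exact (eq_neg_of_add_eq_zero_left (pow_eq_zero_iff two_ne_zero |>.1 h7)).trans (neg_eq Q 1)
  intro k l h
  have h' : (k * l⁻¹) ^ (hh m + 1) = 1 := by
    rw [mul_pow, inv_pow]
    exact mul_inv_eq_one.2 h
  exact mul_inv_eq_one.1 (key _ h')

/-- The Weyl element conjugates a unipotent element into the big cell with controlled torus part. -/
theorem w_uu_w {x y : F} (hf : fn m x y ≠ 0) : ∃ c d l, ((l ^ (hh m + 1) : Fˣ) : F) = fn m x y ∧
    wS Q * uu Q x y * wS Q =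
      uu Q (y / fn m x y) (x / fn m x y) * wS Q * (uu Q c d * hI Q l) := by
  set a := y / fn m x y with ha
  set b := x / fn m x y with hb
  set g : SS := wS Q * (uu Q a b)⁻¹ * (wS Q * uu Q x y * wS Q) with hg
  have hW : W F • inf∞ = pt m 0 0 := W_inf m
  have hfix : g.1 • inf∞ = inf∞ := by
    show (W F * (T m a b)⁻¹ * (W F * T m x y * W F)) • inf∞ = inf∞
    rw [mul_smul, mul_smul, mul_smul, mul_smul, hW, T_pt Q]
    rw [show pt m (0 + x) (0 + x ^ (2 ^ (m + 1)) * 0 + y) = pt m x y by simp, W_pt Q hf,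
      show (T m a b)⁻¹ • pt m (y / fn m x y) (x / fn m x y) = pt m (0 : F) 0 by
        rw [inv_smul_eq_iff, T_pt Q]; simp [ha, hb, zero_pow (pow_ne_zero (m + 1) two_ne_zero)], W_zero]
  obtain ⟨c, d, l, e⟩ := stab_inf Q g.2 hfix
  have eg : g = uu Q c d * hI Q l := Subtype.ext e
  have key : wS Q * uu Q x y * wS Q = uu Q a b * wS Q * (uu Q c d * hI Q l) := by
    rw [← eg, hg, show uu Q a b * wS Q * (wS Q * (uu Q a b)⁻¹ * (wS Q * uu Q x y * wS Q)) =
      uu Q a b * (wS Q * wS Q) * (uu Q a b)⁻¹ * (wS Q * uu Q x y * wS Q) by group, wS_mul_self Q]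
    group
  refine ⟨c, d, l, ?_, key⟩
  have h30 := congrArg (fun z : SS => (z.1.1 : Matrix (Fin 4) (Fin 4) F) 3 0) key
  simp only [Subgroup.coe_mul, Matrix.SpecialLinearGroup.coe_mul] at h30
  simp [uu, wS, hI, W, T, Tmat, H, Matrix.mul_apply, Fin.sum_univ_four, Matrix.diagonal_apply,
    Matrix.vecMul_diagonal] at h30
  simp [h30]

/-- Conjugating a second involution by the torus. -/
theorem hI_conj_jay (k : Fˣ) (b : F) :
    hI Q k * (wS Q * uu Q 0 b * wS Q) * (hI Q k)⁻¹ =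
      wS Q * uu Q 0 (((k⁻¹ : Fˣ) : F) ^ (2 ^ (m + 1) + 1) * b) * wS Q := by
  have h : hI Q k * wS Q * hI Q k = wS Q := Subtype.ext (hwh Q k)
  have h1 : hI Q k * wS Q = wS Q * hI Q k⁻¹ := by
    rw [show hI Q k⁻¹ = (hI Q k)⁻¹ from map_inv (hHom Q) k]
    exact eq_mul_inv_iff_mul_eq.2 h
  have h2 : wS Q * (hI Q k)⁻¹ = (hI Q k⁻¹)⁻¹ * wS Q := by
    rw [show hI Q k⁻¹ = (hI Q k)⁻¹ from map_inv (hHom Q) k, inv_inv]
    exact mul_inv_eq_iff_eq_mul.2 h.symm
  rw [show hI Q k * (wS Q * uu Q 0 b * wS Q) * (hI Q k)⁻¹ = hI Q k * wS Q * uu Q 0 b * (wS Q * (hI Q k)⁻¹) by group,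
    h1, h2, show wS Q * hI Q k⁻¹ * uu Q 0 b * ((hI Q k⁻¹)⁻¹ * wS Q) =
      wS Q * (hI Q k⁻¹ * uu Q 0 b * (hI Q k⁻¹)⁻¹) * wS Q by group, hI_conj, mul_zero]

/-- The product of the two standard involutions. -/
noncomputable def pair (t : F) : SS := uu Q 0 1 * (wS Q * uu Q 0 t * wS Q)

theorem isConj_pair {b c : F} {μ : Fˣ} (hμ : (μ : F) ^ (2 ^ (m + 1) + 1) * b = 1) :
    IsConj (uu Q 0 b * (wS Q * uu Q 0 c * wS Q)) (pair Q (b * c)) := by
  refine isConj_iff.2 ⟨hI Q μ, ?_⟩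
  rw [show hI Q μ * (uu Q 0 b * (wS Q * uu Q 0 c * wS Q)) * (hI Q μ)⁻¹ =
    (hI Q μ * uu Q 0 b * (hI Q μ)⁻¹) * (hI Q μ * (wS Q * uu Q 0 c * wS Q) * (hI Q μ)⁻¹) by group,
    hI_conj, hI_conj_jay, hμ, mul_zero, pair]
  congr 4
  have hb : b = ((μ : F) ^ (2 ^ (m + 1) + 1))⁻¹ := eq_inv_of_mul_eq_one_right hμ
  rw [hb, Units.val_inv_eq_inv_val, inv_pow]

/-- A semisimple element is conjugate to a product of standard involutions. -/
theorem exists_pair {h : SS} (hh' : Semi Q h) : ∃ t : F, t ≠ 0 ∧ IsConj h (pair Q t) := by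
  classical
  have : Fact (Nat.Prime 2) := ⟨Nat.prime_two⟩
  have h2N : 2 ∣ Nat.card (nor h) := by
    rcases nor_card Q hh' with ⟨-, e⟩ | ⟨-, e⟩ <;> rw [e]
    · exact dvd_mul_right _ _
    · exact Dvd.dvd.mul_right (by norm_num) _
  obtain ⟨i0, hi0⟩ := exists_prime_orderOf_dvd_card' (G := nor h) 2 h2N
  obtain ⟨i, hiN, rfl⟩ : ∃ i, ∃ hi : i ∈ nor h, (⟨i, hi⟩ : nor h) = i0 := ⟨i0.1, i0.2, rfl⟩
  have hi : orderOf i = 2 := by rw [← Subgroup.orderOf_coe] at hi0; exact hi0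
  have hinv := inv_tor Q hh' hi hiN (mem_tor.2 (Commute.refl h))
  have hii : i * i = 1 := by rw [← pow_two, ← hi]; exact pow_orderOf_eq_one i
  set j := i * h with hj
  have hj2 : orderOf j = 2 := by
    refine orderOf_eq_prime ?_ fun e => (fam0 Q).not_mem_of_two hh' hi ?_
    · rw [pow_two, hj, show i * h * (i * h) = (i * h * i⁻¹) * (i * i) * h by group, hinv, hii, mul_one,
        inv_mul_cancel]
    · rw [eq_inv_of_mul_eq_one_left e]
      exact inv_mem (mem_tor.2 (Commute.refl h))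
  obtain ⟨p, hp, hip, -⟩ := inv_point Q hi
  obtain ⟨r, hr, hjr, hju⟩ := inv_point Q hj2
  have hpr : p ≠ r := by
    rintro rfl
    have hfx : h.1 • p = p := by
      rw [show h = i * j by rw [hj, ← mul_assoc, hii, one_mul], Subgroup.coe_mul, mul_smul, hjr, hip]
    obtain ⟨c0, hc0, hcp⟩ := transitive Q hp (inf_mem m)
    obtain ⟨c, rfl⟩ : ∃ c : SS, c.1 = c0 := ⟨⟨c0, hc0⟩, rfl⟩
    obtain ⟨b1, -, e1⟩ := inv_at_inf Q (i := c * i * c⁻¹)
      ((orderOf_injective (MulAut.conj c).toMonoidHom (MulAut.conj c).injective i).trans hi) (by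
        show (c.1 * i.1 * c.1⁻¹) • inf∞ = inf∞
        rw [← hcp, mul_smul, mul_smul, inv_smul_smul, hip])
    obtain ⟨b2, -, e2⟩ := inv_at_inf Q (i := c * j * c⁻¹)
      ((orderOf_injective (MulAut.conj c).toMonoidHom (MulAut.conj c).injective j).trans hj2) (by
        show (c.1 * j.1 * c.1⁻¹) • inf∞ = inf∞
        rw [← hcp, mul_smul, mul_smul, inv_smul_smul, hjr])
    refine hh' c ?_
    rw [show c * h * c⁻¹ = (c * i * c⁻¹) * (c * j * c⁻¹) by
      rw [show h = i * j by rw [hj, ← mul_assoc, hii, one_mul]]; group, e1, e2]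
    exact mul_mem (uu_mem Q _ _) (uu_mem Q _ _)
  obtain ⟨c0, hc0, hcp, hcr⟩ := to_inf_zero Q hp hr hpr
  obtain ⟨c, rfl⟩ : ∃ c : SS, c.1 = c0 := ⟨⟨c0, hc0⟩, rfl⟩
  obtain ⟨b, hb, eb⟩ := inv_at_inf Q (i := c * i * c⁻¹)
    ((orderOf_injective (MulAut.conj c).toMonoidHom (MulAut.conj c).injective i).trans hi) (by
      show (c.1 * i.1 * c.1⁻¹) • inf∞ = inf∞
      rw [← hcp, mul_smul, mul_smul, inv_smul_smul, hip])
  obtain ⟨b', hb', eb'⟩ := inv_at_inf Q (i := wS Q * (c * j * c⁻¹) * (wS Q)⁻¹)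
    ((orderOf_injective (MulAut.conj (wS Q)).toMonoidHom (MulAut.conj (wS Q)).injective (c * j * c⁻¹)).trans
      ((orderOf_injective (MulAut.conj c).toMonoidHom (MulAut.conj c).injective j).trans hj2)) (by
      show (W F * (c.1 * j.1 * c.1⁻¹) * (W F)⁻¹) • inf∞ = inf∞
      rw [inv_eq_of_mul_eq_one_right (W_sq Q), mul_smul, mul_smul, W_inf m, ← hcr, mul_smul, mul_smul, inv_smul_smul, hjr, hcr,
        W_zero])
  obtain ⟨μ, hμ⟩ := exists_s1_root Q (Units.mk0 b hb)⁻¹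
  refine ⟨b * b', mul_ne_zero hb hb', ?_⟩
  refine (isConj_iff.2 ⟨c, ?_⟩).trans (isConj_pair Q (μ := μ) (c := b') (b := b) ?_)
  · rw [← eb, ← eb', inv_eq_of_mul_eq_one_right (wS_mul_self Q),
      show wS Q * (wS Q * (c * j * c⁻¹) * wS Q) * wS Q = (wS Q * wS Q) * (c * j * c⁻¹) * (wS Q * wS Q) by group,
      wS_mul_self Q, show h = i * j by rw [hj, ← mul_assoc, hii, one_mul]]
    group
  · have := congrArg Units.val hμ
    rw [Units.val_pow_eq_pow_val, Units.val_inv_eq_inv_val, Units.val_mk0] at this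
    rw [this, inv_mul_cancel₀ hb]

/-- For every nonzero value there are at least `q` points with that coordinate. -/
theorem exists_points {N : F} (hN : N ≠ 0) :
    ∃ p : F → F × F, Function.Injective p ∧ ∀ g, fn m (p g).1 (p g).2 = N := by
  have hw : ∀ g : F, g ^ (2 ^ (m + 1)) + g + 1 ≠ 0 := fun g h => by
    refine no_fix Q g ?_
    rw [add_assoc] at h
    exact (eq_neg_of_add_eq_zero_left h).trans (neg_eq Q _)
  have hexp : ∀ l : Fˣ, (l : F) ^ (2 ^ (m + 1) + 2) = (((l ^ (hh m + 1)) ^ 2 : Fˣ) : F) := fun l => by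
    rw [Units.val_pow_eq_pow_val, Units.val_pow_eq_pow_val, ← pow_mul]
    congr 1
    rw [hh, pow_succ]; ring
  have hbij : Function.Bijective fun l : Fˣ => (l ^ (hh m + 1)) ^ 2 := by
    refine Finite.injective_iff_bijective.1 fun k l h => corner_injective Q (Units.ext ?_)
    have h' := congrArg Units.val h
    simp only [Units.val_pow_eq_pow_val] at h'
    have h7 : ((k : F) ^ (hh m + 1) + (l : F) ^ (hh m + 1)) ^ 2 = 0 := by
      rw [add_sq' Q, h', add_self Q]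
    simp only [Units.val_pow_eq_pow_val]
    exact (eq_neg_of_add_eq_zero_left (pow_eq_zero_iff two_ne_zero |>.1 h7)).trans (neg_eq Q _)
  choose e he using fun g => hbij.2 (Units.mk0 (N / (g ^ (2 ^ (m + 1)) + g + 1)) (div_ne_zero hN (hw g)))
  refine ⟨fun g => ((e g : F), (e g : F) ^ (2 ^ (m + 1) + 1) * g), fun g g' h => ?_, fun g => ?_⟩
  · obtain ⟨h1, h2⟩ := Prod.mk.inj h
    rw [h1] at h2
    exact mul_left_cancel₀ (pow_ne_zero _ (e g').ne_zero) h2
  · have h1 : (e g : F) ^ (2 ^ (m + 1) + 2) = N / (g ^ (2 ^ (m + 1)) + g + 1) := by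
      rw [hexp]; exact congrArg Units.val (he g)
    have h2 := fn_smul Q (e g : F) 1 g
    rw [mul_one] at h2
    show fn m (e g : F) ((e g : F) ^ (2 ^ (m + 1) + 1) * g) = N
    rw [h2, show fn m 1 g = g ^ (2 ^ (m + 1)) + g + 1 by rw [fn, one_pow]; ring, h1, div_mul_cancel₀ _ (hw g)]

/-- Both products with the third involution are conjugate to the first product. -/
theorem third {t : F} (ht : t ≠ 0) {l : Fˣ} (hl : (l : F) ^ (2 ^ (m + 1) + 1) = t⁻¹) {x y : F}
    (hp : fn m x y = ((l ^ (hh m + 1) : Fˣ) : F)) :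
    IsConj (pair Q t) (uu Q 0 1 * (uu Q x y * (wS Q * uu Q 0 t * wS Q) * (uu Q x y)⁻¹)) ∧
    IsConj (pair Q t)
      ((wS Q * uu Q 0 t * wS Q) * (uu Q x y * (wS Q * uu Q 0 t * wS Q) * (uu Q x y)⁻¹)) := by
  have hcen : ∀ a b c : F, uu Q 0 c * uu Q a b = uu Q a b * uu Q 0 c := fun a b c => by
    rw [uu_mul, uu_mul]
    simp [zero_pow (pow_ne_zero (m + 1) two_ne_zero), add_comm]
  constructor
  · refine isConj_iff.2 ⟨uu Q x y, ?_⟩
    rw [pair, show uu Q x y * (uu Q 0 1 * (wS Q * uu Q 0 t * wS Q)) * (uu Q x y)⁻¹ =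
      uu Q x y * uu Q 0 1 * (wS Q * uu Q 0 t * wS Q) * (uu Q x y)⁻¹ by group, ← hcen]
    group
  · have hf : fn m x y ≠ 0 := by rw [hp]; exact Units.ne_zero _
    obtain ⟨c, d, l', hl', hdec⟩ := w_uu_w Q hf
    obtain rfl : l' = l := corner_injective Q (Units.ext (hl'.trans hp))
    set a := y / fn m x y
    set b := x / fn m x y
    obtain ⟨μ, hμ⟩ := exists_s1_root Q (Units.mk0 t ht)⁻¹
    have hμ' : (μ : F) ^ (2 ^ (m + 1) + 1) * t = 1 := by
      have := congrArg Units.val hμ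
      rw [Units.val_pow_eq_pow_val, Units.val_inv_eq_inv_val, Units.val_mk0] at this
      rw [this, inv_mul_cancel₀ ht]
    have h1 := isConj_pair Q (c := (1 : F)) (b := t) hμ'
    rw [mul_one] at h1
    refine h1.symm.trans (isConj_iff.2 ⟨wS Q * uu Q a b, ?_⟩)
    have hsc : hI Q l' * uu Q 0 t * (hI Q l')⁻¹ = uu Q 0 1 := by
      rw [hI_conj, hl, inv_mul_cancel₀ ht, mul_zero]
    have hww := wS_mul_self Q
    have hdec' : uu Q x y * wS Q = wS Q * (uu Q a b * wS Q * (uu Q c d * hI Q l')) := by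
      rw [← hdec, ← mul_assoc, ← mul_assoc, hww, one_mul]
    have hwi : (wS Q)⁻¹ = wS Q := inv_eq_of_mul_eq_one_right hww
    have e1 : uu Q x y * (wS Q * uu Q 0 t * wS Q) * (uu Q x y)⁻¹ =
        wS Q * uu Q a b * (wS Q * uu Q 0 1 * wS Q) * (wS Q * uu Q a b)⁻¹ := by
      calc uu Q x y * (wS Q * uu Q 0 t * wS Q) * (uu Q x y)⁻¹ =
            (uu Q x y * wS Q) * uu Q 0 t * (uu Q x y * (wS Q)⁻¹)⁻¹ := by group
        _ = wS Q * uu Q a b * wS Q * (uu Q c d * (hI Q l' * uu Q 0 t * (hI Q l')⁻¹) * (uu Q c d)⁻¹) *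
              (wS Q)⁻¹ * (wS Q * uu Q a b)⁻¹ := by
          rw [show (uu Q x y * (wS Q)⁻¹)⁻¹ = (uu Q x y * wS Q)⁻¹ by rw [hwi], hdec']; group
        _ = _ := by
          rw [hsc, ← hcen, mul_inv_cancel_right, hwi]
          group
    rw [e1, show wS Q * uu Q a b * (uu Q 0 t * (wS Q * uu Q 0 1 * wS Q)) * (wS Q * uu Q a b)⁻¹ =
      wS Q * (uu Q a b * uu Q 0 t) * (wS Q * uu Q 0 1 * wS Q) * (wS Q * uu Q a b)⁻¹ by group, ← hcen]
    calc _ = wS Q * uu Q 0 t * uu Q a b * (wS Q * uu Q 0 1 * wS Q) * (wS Q * uu Q a b)⁻¹ := by group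
      _ = wS Q * uu Q 0 t * (wS Q * (wS Q * uu Q a b)) * (wS Q * uu Q 0 1 * wS Q) * (wS Q * uu Q a b)⁻¹ := by
        rw [← mul_assoc (wS Q) (wS Q), hww, one_mul]
      _ = _ := by group

/-- Two noncommuting conjugates of a semisimple element with a conjugate quotient. -/
theorem triangle {h : SS} (hs : Semi Q h) :
    ∃ a b : SS, IsConj h a ∧ IsConj h b ∧ IsConj h (a⁻¹ * b) ∧ b ∉ tor a := by
  classical
  obtain ⟨t, ht, hX⟩ := exists_pair Q hs
  set a := pair Q t with ha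
  have hsa : Semi Q a := by
    obtain ⟨c, hc⟩ := isConj_iff.1 hX
    exact hc ▸ hs.conj Q c
  obtain ⟨l, hl0⟩ := exists_s1_root Q (Units.mk0 t ht)⁻¹
  have hl : (l : F) ^ (2 ^ (m + 1) + 1) = t⁻¹ := by
    have := congrArg Units.val hl0
    rwa [Units.val_pow_eq_pow_val, Units.val_inv_eq_inv_val, Units.val_mk0] at this
  obtain ⟨p, hpi, hpN⟩ := exists_points Q (N := ((l ^ (hh m + 1) : Fˣ) : F)) (Units.ne_zero _)
  set j : SS := wS Q * uu Q 0 t * wS Q with hj
  set b : F → SS := fun g => uu Q 0 1 * (uu Q (p g).1 (p g).2 * j * (uu Q (p g).1 (p g).2)⁻¹) with hb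
  have hza : (uu Q (0 : F) 1)⁻¹ = uu Q 0 1 := inv_eq_of_mul_eq_one_right (by
    rw [uu_zero_mul, add_self Q, uu_zero])
  have hab : ∀ g, a⁻¹ * b g = j * (uu Q (p g).1 (p g).2 * j * (uu Q (p g).1 (p g).2)⁻¹) := fun g => by
    have hjinv : j⁻¹ = j := inv_eq_of_mul_eq_one_right (by
      rw [hj, show wS Q * uu Q 0 t * wS Q * (wS Q * uu Q 0 t * wS Q) =
        wS Q * uu Q 0 t * (wS Q * wS Q) * uu Q 0 t * wS Q by group, wS_mul_self Q, mul_one,
        mul_assoc (wS Q) (uu Q 0 t), uu_zero_mul, add_self Q, uu_zero, mul_one, wS_mul_self Q])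
    show (uu Q 0 1 * j)⁻¹ * (uu Q 0 1 * _) = _
    rw [mul_inv_rev, hjinv, mul_assoc, inv_mul_cancel_left]
  by_contra hno
  push Not at hno
  have hall : ∀ g, b g ∈ tor a ∧ IsConj a (b g) := fun g =>
    ⟨hno a (b g) hX (hX.trans (third Q ht hl (hpN g)).1) (by rw [hab]; exact hX.trans (third Q ht hl (hpN g)).2),
      (third Q ht hl (hpN g)).1⟩
  choose c hc using fun g => isConj_iff.1 (hall g).2
  have hcn : ∀ g, c g ∈ nor a := fun g => (fam0 Q).normalizer_iff hsa (by rw [hc g]; exact (hall g).1)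
  let f : F → nor a ⧸ torIn a := fun g => QuotientGroup.mk ⟨c g, hcn g⟩
  have hf : Function.Injective f := by
    intro g g' e
    have hm : (c g)⁻¹ * c g' ∈ tor a := Subgroup.mem_subgroupOf.1 (QuotientGroup.eq.1 e)
    have hb' : b g = b g' := by
      rw [← hc g, ← hc g']
      calc c g * a * (c g)⁻¹ = c g * (((c g)⁻¹ * c g') * a * ((c g)⁻¹ * c g')⁻¹) * (c g)⁻¹ := by
            rw [(mem_tor.1 hm).eq, mul_inv_cancel_right]
        _ = c g' * a * (c g')⁻¹ := by group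
    have hk := mul_left_cancel hb'
    have hjfix : j.1 • pt m (0 : F) 0 = pt m 0 0 := by
      show (W F * T m 0 t * W F) • pt m (0 : F) 0 = _
      rw [mul_smul, mul_smul, W_zero, T_inf, W_inf m]
    have hpt : ∀ x y : F, (uu Q x y).1 • pt m (0 : F) 0 = pt m x y := fun x y => by
      show T m x y • pt m (0 : F) 0 = _
      rw [T_pt Q]; simp
    have hord : orderOf (uu Q (p g').1 (p g').2 * j * (uu Q (p g').1 (p g').2)⁻¹) = 2 := by
      refine (orderOf_injective (MulAut.conj _).toMonoidHom (MulAut.conj _).injective j).trans ?_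
      rw [hj, show wS Q * uu Q 0 t * wS Q = wS Q * uu Q 0 t * (wS Q)⁻¹ by
        rw [inv_eq_of_mul_eq_one_right (wS_mul_self Q)]]
      exact (orderOf_injective (MulAut.conj _).toMonoidHom (MulAut.conj _).injective _).trans (orderOf_uu_zero Q ht)
    obtain ⟨r, hr, -, hu⟩ := inv_point Q hord
    have e1 := hu (pt m (p g').1 (p g').2) (pt_mem m _ _) (by
      rw [← hpt, Subgroup.coe_mul, Subgroup.coe_mul, Subgroup.coe_inv, mul_smul, mul_smul, inv_smul_smul, hjfix])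
    have e2 := hu (pt m (p g).1 (p g).2) (pt_mem m _ _) (by
      rw [← hk, ← hpt, Subgroup.coe_mul, Subgroup.coe_mul, Subgroup.coe_inv, mul_smul, mul_smul, inv_smul_smul,
        hjfix])
    obtain ⟨h1, h2⟩ := pt_inj (e2.trans e1.symm)
    exact hpi (Prod.ext h1 h2)
  have h1 := Nat.card_le_card_of_injective f hf
  have h2 : Nat.card (nor a ⧸ torIn a) ≤ 4 := by
    show (torIn a).index ≤ 4
    rcases index_torIn Q hsa with e | e <;> omega
  rw [Nat.card_eq_fintype_card (α := F), Q.hF] at h1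
  have := (num_facts Q).1
  omega

end Cfsg.Lib.Suz.Binary
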