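import Cfsg.Agent.Suz.Binary.Center
import Cfsg.Agent.Suz.Binary.Triangle
import Cfsg.Agent.Suz.Binary.Subspace
import Mathlib

/-!
The proper nontrivial subgroups of a Suzuki group, other than the centres of the Sylow 2-subgroups, give
actions on cosets that are not binary.
-/

set_option autoImplicit false
set_option linter.unusedSectionVars false
set_option linter.style.haveILetI false

namespace Cfsg.Lib.Suz.Binary

open Cfsg.Lib.Suz Cfsg.Lib.Suz.Sub Cfsg.Lib.Suz.Solub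

variable {F : Type*} [Field F] [Fintype F] {m : ℕ} (Q : Par F m)

local notation "SS" => Cfsg.Sz F m
local notation "inf∞" => Cfsg.suzukiPointInfinity F

omit [Fintype F] in
theorem conj_ne_one {g x : Cfsg.Sz F m} (h : x ≠ 1) : g⁻¹ * x * g ≠ 1 := fun e => h (by
  calc x = g * (g⁻¹ * x * g) * g⁻¹ := by group
    _ = 1 := by rw [e]; group)

include Q

theorem orderOf_two_or_four {x : SS} (h1 : x ≠ 1) (hs : ¬ Semi Q x) : orderOf x = 2 ∨ orderOf x = 4 := by
  have h4 : x ^ 4 = 1 := by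
    by_contra h
    exact hs (semi_of_not_four Q h)
  obtain ⟨j, hj, e⟩ := (Nat.dvd_prime_pow Nat.prime_two).1 (orderOf_dvd_of_pow_eq_one (n := 2 ^ 2) h4)
  interval_cases j
  · exact absurd (orderOf_eq_one_iff.1 (e.trans (pow_zero 2))) h1
  · exact Or.inl (e.trans (pow_one 2))
  · exact Or.inr (e.trans (by norm_num))

theorem orderOf_conj (g x : SS) : orderOf (g⁻¹ * x * g) = orderOf x := by
  have := orderOf_injective (MulAut.conj g⁻¹).toMonoidHom (MulAut.conj g⁻¹).injective x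
  simpa using this

/-- An odd cyclic subgroup. -/
theorem odd_cyclic {H : Subgroup SS} {u : SS} (hu : Semi Q u) (hne : H ≠ ⊥) (hle : H ≤ tor u) : ¬ Bin H := by
  obtain ⟨⟨h, hh'⟩, hh1⟩ := Subgroup.ne_bot_iff_exists_ne_one.1 hne
  have h1 : h ≠ 1 := fun e => hh1 (Subtype.ext e)
  have hs : Semi Q h := ((semi_spec Q hu).2.2 h (hle hh') h1).1
  obtain ⟨a, b, ha, hb, hab, hnc⟩ := triangle Q hs
  obtain ⟨g1, e1⟩ := isConj_iff.1 ha
  obtain ⟨g2, e2⟩ := isConj_iff.1 hb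
  obtain ⟨g3, e3⟩ := isConj_iff.1 hab
  have hin : ∀ {g x : SS}, g * h * g⁻¹ = x → g⁻¹ * x * g ∈ H := fun {g x} e => by
    rw [← e, show g⁻¹ * (g * h * g⁻¹) * g = h by group]; exact hh'
  have htor : ∀ (g x d : SS), g * h * g⁻¹ = x → g⁻¹ * d * g ∈ H → d ∈ tor x := fun g x d e hd => by
    have h2 := hle hd
    rw [← tor_eq_of_mem Q hu (hle hh') h1] at h2
    rw [← e]
    exact (cent_conj g h d).2 h2
  have ha' : Semi Q a := e1 ▸ hs.conj Q g1
  refine not_bin_three H g1 g2 g3 a b (hin e1) (hin e2) (hin e3) fun d hd1 hd2 hd3 => ?_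
  have hd : d = 1 := by
    by_contra hd0
    have t1 := tor_eq_of_mem Q ha' (htor g1 a d e1 hd1) hd0
    have t2 := tor_eq_of_mem Q (e2 ▸ hs.conj Q g2) (htor g2 b d e2 hd2) hd0
    exact hnc (t1.symm.trans t2 ▸ mem_tor.2 (Commute.refl b))
  rw [hd, inv_one, one_mul] at hd3
  have hat := htor g3 _ a e3 hd3
  have t := tor_eq_of_mem Q (e3 ▸ hs.conj Q g3) hat ha'.ne_one
  have hmem : a⁻¹ * b ∈ tor a := t ▸ mem_tor.2 (Commute.refl _)
  exact hnc (by simpa using mul_mem (mem_tor.2 (Commute.refl a) : a ∈ tor a) hmem)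

/-- A torus normalising subgroup with an element of order four. -/
theorem four_frob {H : Subgroup SS} {u t r : SS} (hu : Semi Q u) (hle : H ≤ nor u) (ht : t ∈ H)
    (ht4 : orderOf t = 4) (hr : r ∈ H) (hr1 : r ≠ 1) (hrs : Semi Q r) : ¬ Bin H := by
  classical
  have hrt : r ∈ tor u := semi_mem Q hu hrs (hle hr)
  have ht1 : t ≠ 1 := fun e => by rw [e, orderOf_one] at ht4; norm_num at ht4
  have hts := not_semi_of_order Q (Or.inr ht4)
  obtain ⟨p, hp, hfp, hup, -⟩ := fix_unique Q ht1 hts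
  obtain ⟨g, hg, hgn⟩ : ∃ g, Commute g t ∧ g ∉ nor u := by
    by_contra hall
    push Not at hall
    have h1 : Nat.card (Subgroup.centralizer ({t} : Set SS)) ≤ Nat.card (nor u ⊓ stab (m := m) p : Subgroup SS) :=
      Subgroup.card_le_of_le fun g hg =>
        ⟨hall g (mem_tor.1 hg), commute_fix Q hp hfp hup (mem_tor.1 hg).symm⟩
    have h2 := card_inter_le Q hu ht1 hts (hle ht) hp hfp
    rw [cent_four Q ht4] at h1
    have := (num_facts Q).1
    rcases index_torIn Q hu with e | e <;> omega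
  have hnos : ∀ d ∈ H, g⁻¹ * d * g ∈ H → Semi Q d → False := fun d hd hd' hsd => by
    have h1 := semi_mem Q hu hsd (hle hd)
    have hsd' : Semi Q (g⁻¹ * d * g) := by
      have := hsd.conj Q g⁻¹
      rwa [inv_inv] at this
    have h2 := semi_mem Q hu hsd' (hle hd')
    refine hgn ((fam0 Q).normalizer_iff hu ?_)
    have h3 : g * u * g⁻¹ ∈ Subgroup.centralizer ({g * (g⁻¹ * d * g) * g⁻¹} : Set SS) := by
      rw [cent_conj, show g⁻¹ * (g * u * g⁻¹) * g = u by group]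
      show u ∈ tor (g⁻¹ * d * g)
      rw [tor_eq_of_mem Q hu h2 hsd'.ne_one]
      exact mem_tor.2 (Commute.refl u)
    rw [show g * (g⁻¹ * d * g) * g⁻¹ = d by group] at h3
    show g * u * g⁻¹ ∈ tor u
    exact (tor_eq_of_mem Q hu h1 hsd.ne_one) ▸ h3
  have hzt : ∀ {v : SS}, Commute g v → v ∈ H → g⁻¹ * v * g ∈ H := fun {v} hc hv => by
    rw [mul_assoc, ← hc.eq, inv_mul_cancel_left]; exact hv
  have ht2 : orderOf (t ^ 2) = 2 := by rw [orderOf_pow, ht4]; norm_num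
  have hty : t * r * t⁻¹ ∈ tor u := (Subgroup.mem_normalizer_iff.1 (hle ht) r).1 hrt
  have hfree : ∀ v ∈ tor u, v ≠ 1 → ∀ d ∈ H, g⁻¹ * d * g ∈ H → Commute d v → d = 1 := fun v hv hv1 d hd hd' hc => by
    by_contra hd1
    have hm : d ∈ tor v := mem_tor.2 hc
    exact hnos d hd hd' ((semi_spec Q ((semi_spec Q hu).2.2 v hv hv1).1).2.2 d hm hd1).1
  have hy1 : t * r * t⁻¹ ≠ 1 := fun e => hr1 (by
    rwa [mul_inv_eq_one, mul_eq_left] at e)
  refine not_bin_four H (tor u ⊓ H) g r (t * r * t⁻¹) t t⁻¹ (t ^ 2) inf_le_right (fun e he he' => ?_)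
    (fun d hd _ e he => ⟨(Subgroup.mem_normalizer_iff.1 (hle hd) e).1 he.1,
      H.mul_mem (H.mul_mem hd he.2) (H.inv_mem hd)⟩)
    ⟨hrt, hr⟩ ⟨hty, H.mul_mem (H.mul_mem ht hr) (H.inv_mem ht)⟩ (hfree r hrt hr1) (hfree _ hty hy1)
    ht (hzt hg ht) (inv_mem ht) (hzt hg.inv_right (inv_mem ht)) (fun e => ?_) (pow_mem ht 2)
    (hzt (hg.pow_right 2) (pow_mem ht 2)) ?_
  · by_contra he1
    exact hnos e he.2 he' ((semi_spec Q hu).2.2 e he.1 he1).1
  · have h2 : t ^ 2 = 1 := by rw [pow_two]; nth_rewrite 2 [e]; exact mul_inv_cancel t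
    rw [h2, orderOf_one] at ht2
    norm_num at ht2
  · rw [inv_tor Q hu ht2 (pow_mem (hle ht) 2) (mul_mem (inv_mem hrt) hty),
      show t⁻¹ * (t * r * t⁻¹) * t⁻¹⁻¹ = r by group, mul_inv_rev, inv_inv]

/-- A dihedral subgroup. -/
theorem dihedral {H : Subgroup SS} {u s : SS} (hu : Semi Q u) (hle : H ≤ nor u) (hs : s ∈ H)
    (hs2 : orderOf s = 2) (hno : ∀ x ∈ H, orderOf x ≠ 4) : ¬ Bin H := by
  obtain ⟨κ, hκ⟩ := exists_s_ne Q
  have hb0 : κ ≠ 0 := fun e => hκ (by rw [e, zero_pow (pow_ne_zero _ two_ne_zero)])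
  have hb1 : κ + 1 ≠ 0 := fun e => hκ (by
    rw [(eq_neg_of_add_eq_zero_left e).trans (neg_eq Q 1), one_pow])
  set i := uu Q 0 1 with hi
  set j := uu Q 0 κ with hj
  have hij : i⁻¹ * j = uu Q 0 (κ + 1) := by
    rw [inv_eq_of_mul_eq_one_right (show i * i = 1 by rw [hi, uu_zero_mul, add_self Q, uu_zero]), hi, hj,
      uu_zero_mul, add_comm]
  have hoi : orderOf i = 2 := orderOf_uu_zero Q one_ne_zero
  have hoj : orderOf j = 2 := orderOf_uu_zero Q hb0
  have hok : orderOf (i⁻¹ * j) = 2 := hij ▸ orderOf_uu_zero Q hb1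
  have hfind : ∀ {v : SS}, orderOf v = 2 → ∃ g, g⁻¹ * v * g ∈ H := fun {v} hv => by
    obtain ⟨g, e⟩ := isConj_iff.1 ((invol_conj Q hs2).symm.trans (invol_conj Q hv))
    exact ⟨g, by rw [← e, show g⁻¹ * (g * s * g⁻¹) * g = s by group]; exact hs⟩
  obtain ⟨g1, h1⟩ := hfind hoi
  obtain ⟨g2, h2⟩ := hfind hoj
  obtain ⟨g3, h3⟩ := hfind hok
  -- a semisimple element of a conjugate is inverted by its involutions
  have hinv : ∀ {g v d : SS}, g⁻¹ * v * g ∈ H → orderOf v = 2 → g⁻¹ * d * g ∈ H → Semi Q d →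
      v * d * v⁻¹ = d⁻¹ := by
    intro g v d hv hv2 hd hsd
    have hsd' : Semi Q (g⁻¹ * d * g) := by
      have := hsd.conj Q g⁻¹
      rwa [inv_inv] at this
    have e := inv_tor Q hu (i := g⁻¹ * v * g) ((orderOf_conj Q g v).trans hv2) (hle hv)
      (semi_mem Q hu hsd' (hle hd))
    calc v * d * v⁻¹ = g * ((g⁻¹ * v * g) * (g⁻¹ * d * g) * (g⁻¹ * v * g)⁻¹) * g⁻¹ := by group
      _ = d⁻¹ := by rw [e]; group
  have hcom : ∀ {v d : SS}, v ∈ uSub Q → v ≠ 1 → Semi Q d → ¬ Commute d v := fun {v d} hv hv1 hsd hc =>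
    hsd 1 (by simpa using cent_uu Q hv hv1 hc)
  -- two involutions of a conjugate
  have hprod : ∀ {g v w : SS}, g⁻¹ * v * g ∈ H → orderOf v = 2 → g⁻¹ * w * g ∈ H → orderOf w = 2 →
      v * w ≠ 1 → Semi Q (v * w) := by
    intro g v w hv hv2 hw hw2 hne
    have ev := inv_tor Q hu (i := g⁻¹ * v * g) ((orderOf_conj Q g v).trans hv2) (hle hv) (mem_tor.2 (Commute.refl u))
    have ew := inv_tor Q hu (i := g⁻¹ * w * g) ((orderOf_conj Q g w).trans hw2) (hle hw) (mem_tor.2 (Commute.refl u))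
    have hm : g⁻¹ * (v * w) * g ∈ tor u := by
      refine mem_tor.2 (mul_inv_eq_iff_eq_mul.1 ?_)
      rw [show g⁻¹ * (v * w) * g * u * (g⁻¹ * (v * w) * g)⁻¹ =
        (g⁻¹ * v * g) * ((g⁻¹ * w * g) * u * (g⁻¹ * w * g)⁻¹) * (g⁻¹ * v * g)⁻¹ by group, ew,
        show (g⁻¹ * v * g) * u⁻¹ * (g⁻¹ * v * g)⁻¹ = ((g⁻¹ * v * g) * u * (g⁻¹ * v * g)⁻¹)⁻¹ by group, ev, inv_inv]
    have := ((semi_spec Q hu).2.2 _ hm (conj_ne_one hne)).1.conj Q g
    rwa [show g * (g⁻¹ * (v * w) * g) * g⁻¹ = v * w by group] at this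
  have hii : i * i = 1 := by rw [← pow_two, ← hoi]; exact pow_orderOf_eq_one i
  have hjU : j ∈ uSub Q := uu_mem Q 0 κ
  have hiU : i ∈ uSub Q := uu_mem Q 0 1
  have hne1 : ∀ {v : SS}, orderOf v = 2 → v ≠ 1 := fun {v} hv e => by
    rw [e, orderOf_one] at hv; norm_num at hv
  have hj1 := hne1 hoj
  refine not_bin_three H g1 g2 g3 i j h1 h2 h3 fun d hd1 hd2 hd3 => ?_
  by_cases hd : d = 1
  · rw [hd, inv_one, one_mul] at hd3
    have he : i * (i⁻¹ * j) = j := mul_inv_cancel_left i j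
    have := hprod hd3 hoi h3 hok (by rw [he]; exact hj1)
    rw [he] at this
    exact this 1 (by simpa using hjU)
  by_cases hsd : Semi Q d
  · have e1 := hinv h1 hoi hd1 hsd
    have e2 := hinv h2 hoj hd2 hsd
    refine hcom (v := i * j) (mul_mem hiU hjU) ?_ hsd ?_
    · intro e
      exact hne1 hok (by rw [inv_eq_of_mul_eq_one_right hii, e])
    · refine (mul_inv_eq_iff_eq_mul.1 ?_).symm
      rw [show i * j * d * (i * j)⁻¹ = i * (j * d * j⁻¹) * i⁻¹ by group, e2,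
        show i * d⁻¹ * i⁻¹ = (i * d * i⁻¹)⁻¹ by group, e1, inv_inv]
  have hd2' : orderOf d = 2 := by
    rcases orderOf_two_or_four Q hd hsd with h | h
    · exact h
    · exact absurd ((orderOf_conj Q g1 d).trans h) (hno _ hd1)
  have hdinv : d⁻¹ = d := inv_eq_of_mul_eq_one_right (by rw [← pow_two, ← hd2']; exact pow_orderOf_eq_one d)
  have hne : d⁻¹ * i ≠ 1 := fun e => by
    obtain rfl := inv_mul_eq_one.1 e
    have := hprod hd2 hoi h2 hoj (fun e => hne1 hok (by rw [inv_eq_of_mul_eq_one_right hii, e]))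
    exact this 1 (by simpa using mul_mem hiU hjU)
  have hcs : Semi Q (d⁻¹ * i) := by
    rw [hdinv] at hne ⊢
    exact hprod hd1 hd2' h1 hoi hne
  have hc1 : g1⁻¹ * (d⁻¹ * i) * g1 ∈ H := by
    rw [show g1⁻¹ * (d⁻¹ * i) * g1 = (g1⁻¹ * d * g1)⁻¹ * (g1⁻¹ * i * g1) by group]
    exact mul_mem (inv_mem hd1) h1
  have e1 := hinv h1 hoi hc1 hcs
  have e3 := hinv h3 hok hd3 hcs
  refine hcom hjU hj1 hcs ((mul_inv_eq_iff_eq_mul.1 ?_).symm)
  have e4 : i⁻¹ * j * (d⁻¹ * i) * (i⁻¹ * j)⁻¹ = i * (d⁻¹ * i) * i⁻¹ := e3.trans e1.symm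
  calc j * (d⁻¹ * i) * j⁻¹ = i * (i⁻¹ * j * (d⁻¹ * i) * (i⁻¹ * j)⁻¹) * i⁻¹ := by group
    _ = (i * i) * (d⁻¹ * i) * (i * i)⁻¹ := by rw [e4]; group
    _ = d⁻¹ * i := by rw [hii, one_mul, inv_one, mul_one]

/-- A subgroup with central involutions and a torus element, against a conjugate meeting it in the torus. -/
theorem torus_frob {M : Subgroup SS} {g : SS} {l : Fˣ} {b : F}
    (hD : ∀ d ∈ M, g⁻¹ * d * g ∈ M → ∃ k, d = hI Q k) (hl1 : l ≠ 1) (hl : hI Q l ∈ M)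
    (hl' : g⁻¹ * hI Q l * g ∈ M) (hb0 : b ≠ 0) (hb : uu Q 0 b ∈ M) : ¬ Bin M := by
  classical
  set μ : F := (l : F) ^ (2 ^ (m + 1) + 1) with hμ
  have hμ1 : μ ≠ 1 := fun e => hl1 (units_s1 Q e)
  have hμ0 : μ ≠ 0 := pow_ne_zero _ l.ne_zero
  have hsum : 1 + μ ≠ 0 := fun e => hμ1 ((eq_neg_of_add_eq_zero_right e).trans (neg_eq Q 1))
  have hlam : l ∈ lam Q M := ⟨0, 0, by rw [uu_zero, one_mul]; exact hl⟩
  let f : cen Q M → cen Q M := fun z => ⟨z.1 + μ * z.1, (cen Q M).add_mem z.2 (scale_mem Q hlam z.2)⟩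
  obtain ⟨⟨c, hc⟩, hcb⟩ := (Finite.injective_iff_surjective (f := f)).1 (fun z w e => by
    have e' : z.1 + μ * z.1 = w.1 + μ * w.1 := congrArg Subtype.val e
    refine Subtype.ext (mul_left_cancel₀ hsum ?_)
    linear_combination e') ⟨b, hb⟩
  have hcb' : c + μ * c = b := congrArg Subtype.val hcb
  have hc0 : c ≠ 0 := fun e => hb0 (by rw [← hcb', e, mul_zero, add_zero])
  have hfix : ∀ z : F, z ≠ 0 → ∀ d ∈ M, g⁻¹ * d * g ∈ M → Commute d (uu Q 0 z) → d = 1 := by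
    intro z hz d hd hd' hc
    obtain ⟨k, rfl⟩ := hD d hd hd'
    have h := hI_conj Q k 0 z
    rw [hc.eq, mul_inv_cancel_right, mul_zero] at h
    have := units_s1 Q ((mul_eq_right₀ hz).1 (uu_inj Q h).2.symm)
    rw [this]
    exact map_one (hHom Q)
  refine not_bin_four M (zSub Q ⊓ M) g (uu Q 0 b) (uu Q 0 c) (hI Q l) (hI Q (l * l)) 1 inf_le_right
    (fun e he he' => ?_) (fun d hd hd' e he => ⟨?_, M.mul_mem (M.mul_mem hd he.2) (M.inv_mem hd)⟩)
    ⟨⟨b, rfl⟩, hb⟩ ⟨⟨c, rfl⟩, hc⟩ (hfix b hb0) (hfix c hc0) hl hl' ?_ ?_ ?_ (one_mem _) ?_ ?_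
  · obtain ⟨k, rfl⟩ := hD e he.2 he'
    by_contra h1
    obtain ⟨z, hz⟩ := he.1
    exact semi_hI Q (fun ek : k = 1 => h1 (by rw [ek]; exact map_one (hHom Q))) 1 (by
      rw [one_mul, inv_one, mul_one, hz]; exact uu_mem Q 0 z)
  · obtain ⟨k, rfl⟩ := hD d hd hd'
    exact zSub_conj Q (H_inf m k) he.1
  · show hHom Q (l * l) ∈ M
    rw [map_mul]; exact mul_mem hl hl
  · show g⁻¹ * hHom Q (l * l) * g ∈ M
    rw [map_mul, show g⁻¹ * (hHom Q l * hHom Q l) * g = (g⁻¹ * hHom Q l * g) * (g⁻¹ * hHom Q l * g) by group]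
    exact mul_mem hl' hl'
  · intro e
    exact hl1 (mul_eq_left.1 (hHom_injective Q e).symm)
  · simpa using one_mem M
  · have hzi : ∀ z : F, (uu Q 0 z)⁻¹ = uu Q 0 z := fun z => inv_eq_of_mul_eq_one_right (by
      rw [uu_zero_mul, add_self Q, uu_zero])
    rw [hI_conj, hI_conj, one_mul, inv_one, mul_one, mul_zero, mul_zero, hzi, hzi, uu_zero_mul, uu_zero_mul,
      Units.val_mul, mul_pow, ← hμ, ← hcb']
    congr 1
    have h2 : (2 : F) = 0 := (charP Q).cast_eq_zero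
    linear_combination (c - μ ^ 2 * c) * h2

/-- A subgroup of the unipotent group with an element of order four. -/
theorem four_unip {H : Subgroup SS} {x : SS} (hle : H ≤ uSub Q) (hx : x ∈ H) (hx4 : orderOf x = 4) :
    ¬ Bin H := by
  set u := uu Q (1 : F) 0 with hu
  set v := wS Q * u with hv
  have hww := wS_mul_self Q
  have hfixU : ∀ {y : SS}, y ∈ uSub Q → y.1 • inf∞ = inf∞ := fun {y} hy => by
    obtain ⟨a, b, rfl⟩ := exists_uu Q hy
    exact T_inf m a b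
  have hu4 : orderOf u = 4 := by
    refine orderOf_eq_prime_pow (p := 2) (n := 1) ?_ (uu_four Q 1 0)
    rw [pow_one, hu, uu_sq, one_pow]
    exact fun e => one_ne_zero (uu_inj Q (e.trans (uu_zero Q).symm)).2
  have hW2 : orderOf (wS Q) = 2 := by
    refine orderOf_eq_prime (by rw [pow_two, hww]) fun e => ?_
    have h := W_inf (F := F) m
    rw [show W F = 1 from congrArg Subtype.val e, one_smul] at h
    exact pt_ne_inf m 0 0 h.symm
  have hv4 : orderOf v = 4 := by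
    refine orderOf_eq_prime_pow (p := 2) (n := 1) ?_ ?_
    · intro e
      rw [pow_one, pow_two, hv] at e
      have e' : wS Q * u * wS Q = u⁻¹ := eq_inv_of_mul_eq_one_left (by rw [← e]; group)
      have h := congrArg (fun z : SS => z.1 • inf∞) e'
      rw [hfixU (inv_mem (uu_mem Q 1 0))] at h
      change (W F * T m 1 0 * W F) • inf∞ = inf∞ at h
      have hf : fn m (0 + (1 : F)) (0 + (1 : F) ^ (2 ^ (m + 1)) * 0 + 0) ≠ 0 := fun h0 => by
        obtain ⟨h1, -⟩ := fn_eq_zero Q h0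
        simp at h1
      rw [mul_smul, mul_smul, W_inf m, T_pt Q, W_pt Q hf] at h
      exact pt_ne_inf m _ _ h
    · have h2 : (2 : F) = 0 := (charP Q).cast_eq_zero
      refine Subtype.ext (Subtype.ext ?_)
      simp only [hv, hu, SubmonoidClass.coe_pow, Subgroup.coe_mul, Matrix.SpecialLinearGroup.coe_pow,
        Matrix.SpecialLinearGroup.coe_mul, OneMemClass.coe_one, Matrix.SpecialLinearGroup.coe_one]
      show ((W F).1 * Tmat m (1 : F) 0) ^ (2 ^ (1 + 1)) = 1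
      rw [show 2 ^ (1 + 1) = 2 * 2 from rfl, pow_mul, pow_two, pow_two]
      ext i j
      fin_cases i <;> fin_cases j <;>
        simp [W, Tmat, fn, Matrix.mul_apply, Fin.sum_univ_four] <;> ring_nf <;>
        first
          | linear_combination 1 * h2
          | linear_combination 2 * h2
          | linear_combination 3 * h2
          | linear_combination 4 * h2
          | linear_combination 5 * h2
          | linear_combination 6 * h2
          | linear_combination 7 * h2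
          | linear_combination 8 * h2
          | linear_combination 9 * h2
          | linear_combination 10 * h2
          | linear_combination -1 * h2
          | linear_combination -2 * h2
          | linear_combination -3 * h2
          | linear_combination -4 * h2
  have hfind4 : ∀ {y : SS}, orderOf y = 4 → ∃ g, g⁻¹ * y * g ∈ H := fun {y} hy => by
    rcases four_conj Q hx4 with e1 | e1 <;> rcases four_conj Q hy with e2 | e2
    all_goals obtain ⟨g, e⟩ := isConj_iff.1 (e1.symm.trans e2)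
    · exact ⟨g, by rw [← e, show g⁻¹ * (g * x * g⁻¹) * g = x by group]; exact hx⟩
    · exact ⟨g, by rw [← inv_inv y, ← e, show g⁻¹ * (g * x * g⁻¹)⁻¹ * g = x⁻¹ by group]; exact inv_mem hx⟩
    · exact ⟨g, by rw [← e, show g⁻¹ * (g * x⁻¹ * g⁻¹) * g = x⁻¹ by group]; exact inv_mem hx⟩
    · exact ⟨g, by rw [← inv_inv y, ← e, show g⁻¹ * (g * x⁻¹ * g⁻¹)⁻¹ * g = x by group]; exact hx⟩
  obtain ⟨g1, h1⟩ : ∃ g, g⁻¹ * wS Q * g ∈ H := by
    have hx2 : orderOf (x ^ 2) = 2 := by rw [orderOf_pow, hx4]; norm_num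
    obtain ⟨g, e⟩ := isConj_iff.1 ((invol_conj Q hx2).symm.trans (invol_conj Q hW2))
    exact ⟨g, by rw [← e, show g⁻¹ * (g * x ^ 2 * g⁻¹) * g = x ^ 2 by group]; exact pow_mem hx 2⟩
  obtain ⟨g2, h2⟩ := hfind4 hv4
  have hvu : (wS Q)⁻¹ * v = u := by rw [hv, inv_mul_cancel_left]
  obtain ⟨g3, h3⟩ := hfind4 (hvu ▸ hu4 : orderOf ((wS Q)⁻¹ * v) = 4)
  have hpt : ∀ {g y : SS}, g⁻¹ * y * g ∈ H → y.1 • g.1 • inf∞ = g.1 • inf∞ := fun {g y} hy => by
    have h := hfixU (hle hy)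
    rw [Subgroup.coe_mul, Subgroup.coe_mul, Subgroup.coe_inv, mul_smul, mul_smul, inv_smul_eq_iff] at h
    exact h
  have hnu : ¬(((1 : F)) = 0 ∧ (0 : F) = 0) := fun h => one_ne_zero h.1
  have hWne : (wS Q).1 • inf∞ ≠ inf∞ := by
    show W F • inf∞ ≠ inf∞
    rw [W_inf m]; exact pt_ne_inf m 0 0
  refine not_bin_three H g1 g2 g3 (wS Q) v h1 h2 h3 fun d hd1 hd2 hd3 => ?_
  have hd : d = 1 := by
    by_contra hd
    have hds : ¬ Semi Q d := fun hs => hs g1⁻¹ (by simpa using hle hd1)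
    obtain ⟨p, -, -, hu', -⟩ := fix_unique Q hd hds
    have e1 := hu' _ (smul_ovoid Q g1.2 (inf_mem m)) (hpt hd1)
    have e2 := hu' _ (smul_ovoid Q g2.2 (inf_mem m)) (hpt hd2)
    have hWp := hpt h1
    have hvp := hpt h2
    rw [← e2.trans e1.symm] at hWp
    have hup : u.1 • g2.1 • inf∞ = g2.1 • inf∞ := by
      rw [← hvu, Subgroup.coe_mul, Subgroup.coe_inv, mul_smul, hvp, inv_smul_eq_iff, hWp]
    rw [fixes_only Q hnu (smul_ovoid Q g2.2 (inf_mem m)) hup] at hWp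
    exact hWne hWp
  rw [hd, inv_one, one_mul] at hd3
  have hup := hpt h3
  rw [hvu] at hup
  have := hpt hd3
  rw [fixes_only Q hnu (smul_ovoid Q g3.2 (inf_mem m)) hup] at this
  exact hWne this

/-- A proper subgroup of the centre of the unipotent group. -/
theorem sub_center {H : Subgroup SS} (hle : H ≤ zSub Q) (hne : H ≠ ⊥) (hz : H ≠ zSub Q) : ¬ Bin H := by
  have := charP Q
  have hE0 : cen Q H ≠ ⊥ := fun h => hne ((Subgroup.eq_bot_iff_forall H).2 fun x hx => by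
    obtain ⟨b, rfl⟩ := hle hx
    have hb : b ∈ cen Q H := hx
    rw [h, AddSubgroup.mem_bot] at hb
    rw [hb, uu_zero])
  have hEtop : cen Q H ≠ ⊤ := fun h => hz (le_antisymm hle fun x hx => by
    obtain ⟨b, rfl⟩ := hx
    show b ∈ cen Q H
    rw [h]; trivial)
  obtain ⟨c1, c2, c3, u1, u2, u3, a, b, ha, hb, hab, hno⟩ := exists_triple (m := m) Q.hF (cen Q H) hE0 hEtop
  choose k hk using fun c : Fˣ => exists_s1_root Q c
  let g : ∀ c : F, c ≠ 0 → SS := fun c hc => (hI Q (k (Units.mk0 c hc)))⁻¹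
  have hg : ∀ (c : F) (hc : c ≠ 0) (z : F), (g c hc)⁻¹ * uu Q 0 z * g c hc = uu Q 0 (c * z) := fun c hc z => by
    show (hI Q _)⁻¹⁻¹ * uu Q 0 z * (hI Q _)⁻¹ = _
    rw [inv_inv, hI_conj, mul_zero]
    have := congrArg Units.val (hk (Units.mk0 c hc))
    rw [Units.val_pow_eq_pow_val, Units.val_mk0] at this
    rw [this]
  have hgfix : ∀ (c : F) (hc : c ≠ 0), (g c hc).1 • inf∞ = inf∞ := fun c hc => by
    show (Cfsg.Lib.Suz.H m _)⁻¹ • inf∞ = inf∞
    rw [inv_smul_eq_iff, H_inf]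
  have hback : ∀ (c : F) (hc : c ≠ 0) (d : SS), (g c hc)⁻¹ * d * g c hc ∈ H →
      ∃ e, d = uu Q 0 e ∧ c * e ∈ cen Q H := fun c hc d hd => by
    have h := zSub_conj Q (hgfix c hc) (hle hd)
    rw [show g c hc * ((g c hc)⁻¹ * d * g c hc) * (g c hc)⁻¹ = d by group] at h
    obtain ⟨e, rfl⟩ := h
    rw [hg] at hd
    exact ⟨e, rfl, hd⟩
  have hzi : ∀ z : F, (uu Q 0 z)⁻¹ = uu Q 0 z := fun z => inv_eq_of_mul_eq_one_right (by
    rw [uu_zero_mul, add_self Q, uu_zero])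
  refine not_bin_three H (g c1 u1) (g c2 u2) (g c3 u3) (uu Q 0 a) (uu Q 0 b) ?_ ?_ ?_ fun d hd1 hd2 hd3 => ?_
  · rw [hg]; exact ha
  · rw [hg]; exact hb
  · rw [hzi, uu_zero_mul, hg]; exact hab
  · obtain ⟨e, rfl, he1⟩ := hback c1 u1 d hd1
    rw [hg] at hd2
    rw [hzi, uu_zero_mul, hg] at hd3
    refine hno e he1 hd2 ?_
    rw [sub_eq_add_neg, neg_eq Q, add_comm]
    exact hd3

end Cfsg.Lib.Suz.Binary
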