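import Cfsg.Agent.Suz.Binary.Generic
import Cfsg.Agent.Suz.SolubCount
import Mathlib

/-!
The centre of a unipotent group of a Suzuki group gives a binary action.
-/

set_option autoImplicit false
set_option linter.unusedSectionVars false
set_option linter.style.haveILetI false

namespace Cfsg.Lib.Suz.Binary

open Cfsg.Lib.Suz Cfsg.Lib.Suz.Sub Cfsg.Lib.Suz.Solub

variable {F : Type*} [Field F] [Fintype F] {m : ℕ} (Q : Par F m)

local notation "SS" => Cfsg.Sz F m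
local notation "inf∞" => Cfsg.suzukiPointInfinity F

include Q

/-- The centre of the standard unipotent group. -/
def zSub : Subgroup (Cfsg.Sz F m) where
  carrier := {g | ∃ b, g = uu Q 0 b}
  one_mem' := ⟨0, (uu_zero Q).symm⟩
  mul_mem' := by
    rintro _ _ ⟨a, rfl⟩ ⟨b, rfl⟩
    exact ⟨a + b, uu_zero_mul Q a b⟩
  inv_mem' := by
    rintro _ ⟨a, rfl⟩
    exact ⟨a, inv_eq_of_mul_eq_one_right (by rw [uu_zero_mul, add_self Q, uu_zero])⟩

theorem zSub_fix {x : SS} (hx : x ∈ zSub Q) : x.1 • inf∞ = inf∞ := by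
  obtain ⟨b, rfl⟩ := hx
  exact T_inf m 0 b

theorem zSub_conj {d x : SS} (hd : d.1 • inf∞ = inf∞) (hx : x ∈ zSub Q) : d * x * d⁻¹ ∈ zSub Q := by
  obtain ⟨b, rfl⟩ := hx
  obtain ⟨a, c, l, rfl⟩ := exists_uh Q hd
  exact ⟨_, uh_conj Q a c l b⟩

theorem zSub_ne {x : SS} (hx : x ∈ zSub Q) (h1 : x ≠ 1) {p : Projectivization F (Fin 4 → F)}
    (hp : p ∈ Cfsg.suzukiOvoid F m) (hfix : x.1 • p = p) : p = inf∞ := by
  obtain ⟨b, rfl⟩ := hx
  exact fixes_only Q (fun h => h1 (by rw [h.2, uu_zero])) hp hfix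

theorem center_map : (Subgroup.center (uSub Q)).map (uSub Q).subtype = zSub Q := by
  ext x
  constructor
  · rintro ⟨y, hy, rfl⟩
    obtain ⟨a, b, e⟩ := exists_uu Q y.2
    obtain rfl : y = ⟨uu Q a b, uu_mem Q a b⟩ := Subtype.ext e
    obtain rfl := (mem_center_iff Q).1 hy
    exact ⟨b, rfl⟩
  · rintro ⟨b, rfl⟩
    exact ⟨⟨uu Q 0 b, uu_mem Q 0 b⟩, (mem_center_iff Q).2 rfl, rfl⟩

theorem bin_zSub : Bin (zSub Q) := by
  classical
  intro n I J hn hpair
  choose c hc using fun i => QuotientGroup.mk_surjective (I i)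
  have hstab : ∀ i (x : SS), x • I i = I i ↔ (c i)⁻¹ * x * c i ∈ zSub Q := fun i x => by
    rw [← hc i]; exact smul_mk_eq_iff _ _ _
  let p : Fin n → Projectivization F (Fin 4 → F) := fun i => (c i).1 • inf∞
  have hp : ∀ i, p i ∈ Cfsg.suzukiOvoid F m := fun i => smul_ovoid Q (c i).2 (inf_mem m)
  have hsame : ∀ i j, p i = p j → ∀ x : SS, x • I i = I i → x • I j = I j := by
    intro i j e x hx
    rw [hstab] at hx ⊢
    have hd : ((c j)⁻¹ * c i).1 • inf∞ = inf∞ := by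
      rw [Subgroup.coe_mul, Subgroup.coe_inv, mul_smul, inv_smul_eq_iff]; exact e
    have := zSub_conj Q hd hx
    rwa [show (c j)⁻¹ * c i * ((c i)⁻¹ * x * c i) * ((c j)⁻¹ * c i)⁻¹ = (c j)⁻¹ * x * c j by group] at this
  have hfix : ∀ i (x : SS), x • I i = I i → x.1 • p i = p i ∧ (x ≠ 1 → x * x = 1 ∧
      ∀ r ∈ Cfsg.suzukiOvoid F m, x.1 • r = r → r = p i) := by
    intro i x hx
    rw [hstab] at hx
    refine ⟨?_, fun h1 => ?_⟩
    · have h := zSub_fix Q hx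
      rw [Subgroup.coe_mul, Subgroup.coe_mul, Subgroup.coe_inv, mul_smul, mul_smul, inv_smul_eq_iff] at h
      exact h
    · have h1' : (c i)⁻¹ * x * c i ≠ 1 := fun e => h1 (by
        calc x = c i * ((c i)⁻¹ * x * c i) * (c i)⁻¹ := by group
          _ = 1 := by rw [e]; group)
      refine ⟨?_, fun r hr hfr => ?_⟩
      · obtain ⟨b, hb⟩ := hx
        have h2 : ((c i)⁻¹ * x * c i) * ((c i)⁻¹ * x * c i) = 1 := by rw [hb, uu_zero_mul, add_self Q, uu_zero]
        calc x * x = c i * (((c i)⁻¹ * x * c i) * ((c i)⁻¹ * x * c i)) * (c i)⁻¹ := by group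
          _ = 1 := by rw [h2]; group
      · have h := zSub_ne Q hx h1' (p := (c i).1⁻¹ • r) (smul_ovoid Q (inv_mem (c i).2) hr) (by
          rw [Subgroup.coe_mul, Subgroup.coe_mul, Subgroup.coe_inv, mul_smul, mul_smul, smul_inv_smul, hfr])
        rw [inv_smul_eq_iff] at h
        exact h
  by_cases hall : ∀ i j, p i = p j
  · set o : Fin n := ⟨0, by omega⟩
    set o' : Fin n := ⟨1, by omega⟩
    have hoo : o ≠ o' := by simp [o, o', Fin.ext_iff]
    obtain ⟨g, hg, hg'⟩ := hpair o o' hoo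
    refine ⟨g, fun i => ?_⟩
    rcases eq_or_ne i o with rfl | hi
    · exact hg
    obtain ⟨g', hgi, hgo⟩ := hpair i o hi
    have hx : (g⁻¹ * g') • I o = I o := by rw [mul_smul, hgo, ← hg, inv_smul_smul]
    have hx' := hsame o i (hall o i) _ hx
    rw [mul_smul, inv_smul_eq_iff] at hx'
    rw [← hx', hgi]
  push Not at hall
  obtain ⟨i, j, hij⟩ := hall
  obtain ⟨g, hgi, hgj⟩ := hpair i j (fun e => hij (by rw [e]))
  refine ⟨g, fun k => ?_⟩
  rcases eq_or_ne k i with rfl | hki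
  · exact hgi
  rcases eq_or_ne k j with rfl | hkj
  · exact hgj
  obtain ⟨g1, h1k, h1i⟩ := hpair k i hki
  obtain ⟨g2, h2k, h2j⟩ := hpair k j hkj
  obtain ⟨x, hx⟩ : ∃ x, x = g⁻¹ * g1 := ⟨_, rfl⟩
  obtain ⟨y, hy⟩ : ∃ y, y = g⁻¹ * g2 := ⟨_, rfl⟩
  have hxi : x • I i = I i := by rw [hx, mul_smul, h1i, ← hgi, inv_smul_smul]
  have hyj : y • I j = I j := by rw [hy, mul_smul, h2j, ← hgj, inv_smul_smul]
  have hz : (x⁻¹ * y) • I k = I k := by
    rw [hx, hy, mul_inv_rev, inv_inv, mul_assoc, mul_inv_cancel_left, mul_smul, h2k, ← h1k, inv_smul_smul]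
  suffices hxk : x • I k = I k by
    rw [hx, mul_smul, inv_smul_eq_iff] at hxk
    rw [← hxk, h1k]
  have hcancel : y • I k = I k → x • I k = I k := fun h => by
    rw [mul_smul, h, inv_smul_eq_iff] at hz
    exact hz.symm
  by_cases hx1 : x = 1
  · rw [hx1, one_smul]
  by_cases hy1 : y = 1
  · exact hcancel (by rw [hy1, one_smul])
  by_cases hki' : p i = p k
  · exact hsame i k hki' x hxi
  by_cases hkj' : p j = p k
  · exact hcancel (hsame j k hkj' y hyj)
  by_cases hz1 : x⁻¹ * y = 1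
  · exfalso
    exact hij (((hfix j y hyj).2 hy1).2 (p i) (hp i) (by rw [← inv_mul_eq_one.1 hz1]; exact (hfix i x hxi).1))
  exfalso
  obtain ⟨hxx, -⟩ := (hfix i x hxi).2 hx1
  obtain ⟨hyy, -⟩ := (hfix j y hyj).2 hy1
  obtain ⟨hzz, -⟩ := (hfix k _ hz).2 hz1
  have hxinv : x⁻¹ = x := inv_eq_of_mul_eq_one_right hxx
  have hcomm : x * y = y * x := by
    rw [hxinv] at hzz
    have e := eq_inv_of_mul_eq_one_left hzz
    rwa [mul_inv_rev, hxinv, inv_eq_of_mul_eq_one_right hyy] at e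
  have hfy : y.1 • p i = p i := ((hfix i x hxi).2 hx1).2 _ (smul_ovoid Q y.2 (hp i)) (by
    rw [← mul_smul, ← Subgroup.coe_mul, hcomm, Subgroup.coe_mul, mul_smul, (hfix i x hxi).1])
  exact hij (((hfix j y hyj).2 hy1).2 (p i) (hp i) hfy)

end Cfsg.Lib.Suz.Binary
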