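import Mathlib

/-!
Binary actions on cosets: transport along isomorphisms and two certificates of failure.
-/

set_option autoImplicit false
set_option linter.style.haveILetI false

namespace Cfsg.Lib.Suz.Binary

variable {G : Type*} [Group G]

/-- The action of the group on the cosets of a subgroup has relational complexity two. -/
def Bin (H : Subgroup G) : Prop :=
  ∀ (n : ℕ) (I J : Fin n → G ⧸ H), 2 ≤ n →
    (∀ i j : Fin n, i ≠ j → ∃ g : G, g • I i = J i ∧ g • I j = J j) → ∃ g : G, ∀ i, g • I i = J i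

theorem smul_mk_eq_iff (H : Subgroup G) (a g : G) :
    a • (g : G ⧸ H) = (g : G ⧸ H) ↔ g⁻¹ * a * g ∈ H := by
  rw [MulAction.Quotient.smul_coe, smul_eq_mul, eq_comm, QuotientGroup.eq, mul_assoc]

theorem bin_bot : Bin (⊥ : Subgroup G) := by
  intro n I J hn hpair
  obtain ⟨g, hg0, hg1⟩ := hpair ⟨0, by omega⟩ ⟨1, by omega⟩ (by simp [Fin.ext_iff])
  refine ⟨g, fun i => ?_⟩
  rcases eq_or_ne i ⟨0, by omega⟩ with rfl | hi
  · exact hg0
  obtain ⟨g', hgi, hgz⟩ := hpair i ⟨0, by omega⟩ hi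
  obtain ⟨c, hc⟩ : ∃ c : G, (c : G ⧸ (⊥ : Subgroup G)) = I ⟨0, by omega⟩ := ⟨_, QuotientGroup.out_eq' _⟩
  have he : (g'⁻¹ * g) • (c : G ⧸ (⊥ : Subgroup G)) = c := by
    rw [hc, mul_smul, hg0, ← hgz, inv_smul_smul]
  rw [smul_mk_eq_iff, Subgroup.mem_bot, conj_eq_iff_one] at he
  rwa [← eq_of_inv_mul_eq_one he]
where
  conj_eq_iff_one {c a : G} : c⁻¹ * a * c = 1 ↔ a = 1 := by
    constructor
    · intro h
      calc a = c * (c⁻¹ * a * c) * c⁻¹ := by group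
        _ = 1 := by rw [h]; group
    · rintro rfl; group

theorem bin_map {G' : Type*} [Group G'] (e : G ≃* G') {H : Subgroup G} {H' : Subgroup G'}
    (hH : H.map e.toMonoidHom = H') (hbin : Bin H) : Bin H' := by
  subst hH
  intro n I J hn hpair
  let f : G ⧸ H → G' ⧸ H.map e.toMonoidHom :=
    Quotient.map' e (fun a b hab => by
      rw [QuotientGroup.leftRel_apply] at hab ⊢
      exact ⟨a⁻¹ * b, hab, by simp⟩)
  have hmk : ∀ x : G, f (x : G ⧸ H) = ((e x : G') : G' ⧸ H.map e.toMonoidHom) := fun x => rfl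
  have hsm : ∀ (g : G) (p : G ⧸ H), f (g • p) = e g • f p := by
    intro g p
    obtain ⟨x, rfl⟩ := QuotientGroup.mk_surjective p
    rw [MulAction.Quotient.smul_coe, hmk, hmk, MulAction.Quotient.smul_coe, smul_eq_mul, smul_eq_mul, map_mul]
  have hbij : Function.Bijective f := by
    refine ⟨fun p r h => ?_, fun p => ?_⟩
    · obtain ⟨x, rfl⟩ := QuotientGroup.mk_surjective p
      obtain ⟨y, rfl⟩ := QuotientGroup.mk_surjective r
      rw [hmk, hmk, QuotientGroup.eq] at h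
      obtain ⟨z, hz, hze⟩ := h
      rw [MulEquiv.coe_toMonoidHom, ← map_inv, ← map_mul] at hze
      rw [QuotientGroup.eq]
      exact e.injective hze ▸ hz
    · obtain ⟨y, rfl⟩ := QuotientGroup.mk_surjective p
      exact ⟨(e.symm y : G ⧸ H), by rw [hmk, e.apply_symm_apply]⟩
  choose I' hI using fun i => hbij.2 (I i)
  choose J' hJ using fun i => hbij.2 (J i)
  obtain ⟨g, hg⟩ := hbin n I' J' hn fun i j hij => by
    obtain ⟨g, h1, h2⟩ := hpair i j hij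
    refine ⟨e.symm g, hbij.1 ?_, hbij.1 ?_⟩
    · rw [hsm, e.apply_symm_apply, hI, hJ, h1]
    · rw [hsm, e.apply_symm_apply, hI, hJ, h2]
  exact ⟨e g, fun i => by rw [← hI, ← hJ, ← hsm, hg]⟩

theorem bin_conj {H H' : Subgroup G} (c : G) (hH : H.map (MulAut.conj c).toMonoidHom = H') :
    Bin H ↔ Bin H' := by
  refine ⟨bin_map (MulAut.conj c) hH, bin_map (MulAut.conj c⁻¹) ?_⟩
  rw [← hH, Subgroup.map_map]
  convert Subgroup.map_id H
  ext x
  simp [mul_assoc]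

/-- Three cosets witnessing that an action is not binary. -/
theorem not_bin_three (H : Subgroup G) (g1 g2 g3 a b : G) (ha : g1⁻¹ * a * g1 ∈ H)
    (hb : g2⁻¹ * b * g2 ∈ H) (hab : g3⁻¹ * (a⁻¹ * b) * g3 ∈ H)
    (hno : ∀ d, g1⁻¹ * d * g1 ∈ H → g2⁻¹ * d * g2 ∈ H → g3⁻¹ * (d⁻¹ * a) * g3 ∉ H) : ¬ Bin H := by
  intro hbin
  have hA := (smul_mk_eq_iff H a g1).2 ha
  have hB := (smul_mk_eq_iff H b g2).2 hb
  have hC : b • (g3 : G ⧸ H) = a • (g3 : G ⧸ H) := by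
    rw [← inv_smul_eq_iff, ← mul_smul]
    exact (smul_mk_eq_iff H _ g3).2 hab
  obtain ⟨g, hg⟩ := hbin 3 ![(g1 : G ⧸ H), (g2 : G ⧸ H), (g3 : G ⧸ H)]
    ![(g1 : G ⧸ H), (g2 : G ⧸ H), a • (g3 : G ⧸ H)] (by norm_num) (fun i j hij => by
      fin_cases i <;> fin_cases j
      all_goals first
        | exact absurd rfl hij
        | exact ⟨1, one_smul _ _, one_smul _ _⟩
        | exact ⟨a, hA, rfl⟩
        | exact ⟨a, rfl, hA⟩
        | exact ⟨b, hB, hC⟩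
        | exact ⟨b, hC, hB⟩)
  have h0 : g • (g1 : G ⧸ H) = g1 := hg 0
  have h1 : g • (g2 : G ⧸ H) = g2 := hg 1
  have h2 : g • (g3 : G ⧸ H) = a • (g3 : G ⧸ H) := hg 2
  refine hno g ((smul_mk_eq_iff H g g1).1 h0) ((smul_mk_eq_iff H g g2).1 h1) ((smul_mk_eq_iff H _ g3).1 ?_)
  rw [mul_smul, ← h2, inv_smul_smul]

/-- Four cosets witnessing that an action is not binary, from a subgroup acted on without fixed points. -/
theorem not_bin_four (H E : Subgroup G) (g : G) (x y l k m : G) (hE : E ≤ H)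
    (hEg : ∀ e ∈ E, g⁻¹ * e * g ∈ H → e = 1)
    (hnorm : ∀ d ∈ H, g⁻¹ * d * g ∈ H → ∀ e ∈ E, d * e * d⁻¹ ∈ E)
    (hx : x ∈ E) (hy : y ∈ E)
    (hfx : ∀ d ∈ H, g⁻¹ * d * g ∈ H → Commute d x → d = 1)
    (hfy : ∀ d ∈ H, g⁻¹ * d * g ∈ H → Commute d y → d = 1)
    (hl : l ∈ H) (hl' : g⁻¹ * l * g ∈ H) (hk : k ∈ H) (hk' : g⁻¹ * k * g ∈ H) (hne : l ≠ k)
    (hm : m ∈ H) (hm' : g⁻¹ * m * g ∈ H)
    (heq : m * (x⁻¹ * y) * m⁻¹ = (l * x * l⁻¹)⁻¹ * (k * y * k⁻¹)) : ¬ Bin H := by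
  intro hbin
  have hsm : ∀ u v : G, u • (v : G ⧸ H) = ((u * v : G) : G ⧸ H) := fun u v => rfl
  have hfixα : ∀ {u : G}, u ∈ H → u • ((1 : G) : G ⧸ H) = ((1 : G) : G ⧸ H) := fun {u} hu =>
    (smul_mk_eq_iff H u 1).2 (by simpa using hu)
  have hfixβ : ∀ {u : G}, g⁻¹ * u * g ∈ H → u • (g : G ⧸ H) = (g : G ⧸ H) := fun {u} hu =>
    (smul_mk_eq_iff H u g).2 hu
  have hmove : ∀ {u : G} (v : G), g⁻¹ * u * g ∈ H →
      u • ((v * g : G) : G ⧸ H) = ((u * v * u⁻¹ * g : G) : G ⧸ H) := fun {u} v hu => by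
    rw [← hsm (u * v * u⁻¹) g, ← hsm v g, ← mul_smul,
      show u * v = u * v * u⁻¹ * u by group, mul_smul, hfixβ hu]
    simp [mul_assoc]
  obtain ⟨g', hg⟩ := hbin 4
    ![((1 : G) : G ⧸ H), (g : G ⧸ H), ((x * g : G) : G ⧸ H), ((y * g : G) : G ⧸ H)]
    ![((1 : G) : G ⧸ H), (g : G ⧸ H), ((l * x * l⁻¹ * g : G) : G ⧸ H), ((k * y * k⁻¹ * g : G) : G ⧸ H)]
    (by norm_num) (fun i j hij => by
      have hpair : ∃ u : G, u • ((x * g : G) : G ⧸ H) = ((l * x * l⁻¹ * g : G) : G ⧸ H) ∧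
          u • ((y * g : G) : G ⧸ H) = ((k * y * k⁻¹ * g : G) : G ⧸ H) := by
        refine ⟨l * x * l⁻¹ * m * x⁻¹, ?_, ?_⟩
        · rw [← hsm x g, ← mul_smul, inv_mul_cancel_right, mul_smul, hfixβ hm', hsm]
        · rw [← hsm y g, ← mul_smul,
            show l * x * l⁻¹ * m * x⁻¹ * y = l * x * l⁻¹ * (m * (x⁻¹ * y) * m⁻¹) * m by group, heq,
            mul_inv_cancel_left, mul_smul, hfixβ hm', hsm]
      fin_cases i <;> fin_cases j
      all_goals first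
        | exact absurd rfl hij
        | exact ⟨1, one_smul _ _, one_smul _ _⟩
        | exact ⟨l, hfixα hl, hmove x hl'⟩
        | exact ⟨l, hmove x hl', hfixα hl⟩
        | exact ⟨l, hfixβ hl', hmove x hl'⟩
        | exact ⟨l, hmove x hl', hfixβ hl'⟩
        | exact ⟨k, hfixα hk, hmove y hk'⟩
        | exact ⟨k, hmove y hk', hfixα hk⟩
        | exact ⟨k, hfixβ hk', hmove y hk'⟩
        | exact ⟨k, hmove y hk', hfixβ hk'⟩
        | exact hpair
        | exact hpair.imp fun _ h => h.symm)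
  have h0 : g' • ((1 : G) : G ⧸ H) = ((1 : G) : G ⧸ H) := hg 0
  have h1 : g' • (g : G ⧸ H) = (g : G ⧸ H) := hg 1
  have hd : g' ∈ H := by simpa using (smul_mk_eq_iff H g' 1).1 h0
  have hd' : g⁻¹ * g' * g ∈ H := (smul_mk_eq_iff H g' g).1 h1
  have key : ∀ v w u : G, v ∈ E → (∀ d ∈ H, g⁻¹ * d * g ∈ H → Commute d v → d = 1) → u ∈ H →
      g⁻¹ * u * g ∈ H → w = u * v * u⁻¹ →
      g' • ((v * g : G) : G ⧸ H) = ((w * g : G) : G ⧸ H) → g' = u := by
    intro v w u hv hfree hu hu' hw h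
    rw [hmove v hd', QuotientGroup.eq] at h
    have hw' : w ∈ E := hw ▸ hnorm u hu hu' v hv
    have he : (g' * v * g'⁻¹)⁻¹ * w = 1 := hEg _ (mul_mem (inv_mem (hnorm g' hd hd' v hv)) hw') (by
      simpa [mul_assoc] using h)
    rw [inv_mul_eq_one] at he
    refine (inv_mul_eq_one.1 (hfree (u⁻¹ * g') (mul_mem (inv_mem hu) hd) ?_ ?_)).symm
    · rw [show g⁻¹ * (u⁻¹ * g') * g = (g⁻¹ * u * g)⁻¹ * (g⁻¹ * g' * g) by group]
      exact mul_mem (inv_mem hu') hd'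
    · show _ = _
      calc u⁻¹ * g' * v = u⁻¹ * (g' * v * g'⁻¹) * g' := by group
        _ = v * (u⁻¹ * g') := by rw [he, hw]; group
  exact hne ((key x _ l hx hfx hl hl' rfl (hg 2)).symm.trans (key y _ k hy hfy hk hk' rfl (hg 3)))

end Cfsg.Lib.Suz.Binary
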